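import Groth.Agent.AlgSt.K734.FibFp
import Groth.Agent.AlgSt.K743.DiagBC

/-!
# The relative inertia as a base change of the diagonal, and the neutral section as the second diagonal

For `f : 𝒳 ⥤ᵇ 𝒴` (any universes; no hypothesis):
* `inertiaE f : inertiaToBase f ⋙ diag f ≅ inertiaToBase f ⋙ diag f`, component `(𝟙, α)` at `(x, α)`;
* `inertia_isCart` : the square of `inertiaToBase f` over `diag f` (along `diag f`) is 2-cartesian;
* `toFp f : inertia f ⥤ᵇ fp (diag f) (diag f)` is an equivalence over the base, `neutral_toFp`;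
* `isCart_of_equiv` : a 2-commutative square with horizontal equivalences is 2-cartesian;
* consequences for `RepByAlgSpWith`.
-/

set_option autoImplicit false
set_option backward.isDefEq.respectTransparency false
set_option backward.isDefEq.respectTransparency.types false

universe v₆ u₆ v₅ u₅ v₄ u₄ v₃ u₃ v₂ u₂ v u

open CategoryTheory CategoryTheory.Limits AlgebraicGeometry Opposite

namespace K740.Inertia

open K734.Fib K743.BC

section Square

variable {C : Type u} [Category.{v} C] {𝒜 : BasedCategory.{v₂, u₂} C} {ℬ : BasedCategory.{v₃, u₃} C}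
  {𝒞 : BasedCategory.{v₄, u₄} C} {𝒟 : BasedCategory.{v₅, u₅} C}
  {F : 𝒜 ⥤ᵇ ℬ} {G : 𝒞 ⥤ᵇ 𝒟} {a : 𝒜 ⥤ᵇ 𝒞} {b : ℬ ⥤ᵇ 𝒟}
  {e : BasedFunctor.comp F b ≅ BasedFunctor.comp a G}

theorem isCart_iff_isEquivOver : IsCart F G a b e ↔ FibCat.IsEquivOver (FibCat.fpLift F a e) :=
  ⟨fun h => K743.BC.isEquivOver_of_ff _ h.full h.faithful h.surj,
    fun h => ⟨full_of h, faithful_of h, fun η => by
      obtain ⟨ξ, θ, hθ⟩ := essSurjOver_of h η
      exact ⟨ξ, θ, hθ.lift' rfl⟩⟩⟩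

/-- A 2-commutative square with horizontal equivalences over the base is 2-cartesian. -/
theorem isCart_of_equiv (ha : FibCat.IsEquivOver a) (hb : FibCat.IsEquivOver b) : IsCart F G a b e := by
  rw [isCart_iff_isEquivOver]
  exact isEquivOver_of_comp_right (G := FibCat.fpSnd b G) (isEquivOver_fpSnd b G hb) ha

end Square

section Inertia

variable {C : Type u} [Category.{v} C] {𝒳 : BasedCategory.{v₂, u₂} C} {𝒴 : BasedCategory.{v₃, u₃} C}
  (f : 𝒳 ⥤ᵇ 𝒴)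

/-- The tautological 2-automorphism of `inertiaToBase f ⋙ diag f`: `(𝟙, α)` at `(x, α)`. -/
def inertiaE : BasedFunctor.comp (FibCat.inertiaToBase f) (FibCat.diag f) ≅
    BasedFunctor.comp (FibCat.inertiaToBase f) (FibCat.diag f) :=
  mkIso (fun x => mkIsoFp (Iso.refl x.pt) x.aut (by
      change f.map (𝟙 x.pt) ≫ 𝟙 (f.obj x.pt) = 𝟙 (f.obj x.pt) ≫ f.map x.aut.hom
      rw [x.map_aut, f.map_id]))
    (fun x => vert_fp_iff_fst.2 (IsVert.id _))
    (fun {x y} φ => homFp_ext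
      (by change φ.hom ≫ 𝟙 _ = 𝟙 _ ≫ φ.hom; simp)
      (by change φ.hom ≫ y.aut.hom = x.aut.hom ≫ φ.hom; exact φ.comm.symm))

theorem inertiaE_app_fst (x : (FibCat.inertia f).obj) : (app (inertiaE f) x).hom.hom.fst = 𝟙 x.pt := rfl

theorem inertiaE_app_snd (x : (FibCat.inertia f).obj) : (app (inertiaE f) x).hom.hom.snd = x.aut.hom := rfl

/-- The comparison functor `(x, α) ↦ (x, x, (𝟙, α))`. -/
abbrev toFp : FibCat.inertia f ⥤ᵇ FibCat.fp (FibCat.diag f) (FibCat.diag f) :=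
  FibCat.fpLift (FibCat.inertiaToBase f) (FibCat.inertiaToBase f) (inertiaE f)

theorem isEquivOver_toFp : FibCat.IsEquivOver (toFp f) := by
  refine isTwoCart_of _ _ _ ?_ ?_ ?_
  · intro w w' u v huv
    have h1 : u ≫ 𝟙 _ = 𝟙 _ ≫ v := congrArg (fun k => k.hom.fst) huv
    have h2 : u ≫ w'.aut.hom = w.aut.hom ≫ v := congrArg (fun k => k.hom.snd) huv
    rw [Category.comp_id, Category.id_comp] at h1
    subst h1
    exact ⟨⟨u, h2.symm⟩, rfl, rfl⟩
  · intro w w' h h' h1 _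
    exact FibCat.InertiaObj.hom_ext h1
  · intro x y φ hφ
    let φ₁ : x ≅ y := (FibCat.fpFst f f).mapIso φ
    let φ₂ : x ≅ y := (FibCat.fpSnd f f).mapIso φ
    have hw : f.map φ₁.hom ≫ 𝟙 (f.obj y) = 𝟙 (f.obj x) ≫ f.map φ₂.hom := φ.hom.hom.w
    rw [Category.comp_id, Category.id_comp] at hw
    have hα : f.map (φ₂ ≪≫ φ₁.symm).hom = 𝟙 (f.obj x) := by
      change f.map (φ₂.hom ≫ φ₁.inv) = _
      rw [Functor.map_comp, ← hw, ← Functor.map_comp, Iso.hom_inv_id, f.map_id]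
    refine ⟨⟨x, φ₂ ≪≫ φ₁.symm, hα⟩, Iso.refl x, φ₁, IsVert.id _, homFp_ext ?_ ?_⟩
    · change 𝟙 x ≫ φ₁.hom = 𝟙 x ≫ φ₁.hom
      rfl
    · change 𝟙 x ≫ φ₂.hom = (φ₂.hom ≫ φ₁.inv) ≫ φ₁.hom
      simp

/-- The relative inertia is the base change of the diagonal along itself. -/
theorem inertia_isCart : IsCart (FibCat.inertiaToBase f) (FibCat.diag f) (FibCat.inertiaToBase f) (FibCat.diag f)
    (inertiaE f) :=
  isCart_iff_isEquivOver.2 (isEquivOver_toFp f)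

/-- The neutral section corresponds to the second diagonal. -/
def neutral_toFp : BasedFunctor.comp (FibCat.inertiaNeutral f) (toFp f) ≅
    BasedFunctor.comp (BasedFunctor.id 𝒳) (FibCat.diag (FibCat.diag f)) :=
  liftExt (Iso.refl _) (Iso.refl _) (fun x => homFp_ext
    (by change 𝟙 x ≫ 𝟙 x = 𝟙 x ≫ 𝟙 x; rfl) (by change 𝟙 x ≫ 𝟙 x = 𝟙 x ≫ 𝟙 x; rfl))

theorem neutral_isCart : IsCart (FibCat.inertiaNeutral f) (FibCat.diag (FibCat.diag f)) (BasedFunctor.id 𝒳)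
    (toFp f) (neutral_toFp f) :=
  isCart_of_equiv (isEquivOver_refl 𝒳) (isEquivOver_toFp f)

end Inertia

section Sp

variable {S : Scheme.{u}} {𝒜 : BasedCategory.{v₂, u₂} (Over S)} {ℬ : BasedCategory.{v₃, u₃} (Over S)}
  {𝒞 : BasedCategory.{v₄, u₄} (Over S)} {𝒟 : BasedCategory.{v₅, u₅} (Over S)}

/-- `RepByAlgSpWith` only depends on the functor up to equivalences over the base (any universes, any `P`). -/
theorem repByAlgSpWith_iff_of_equiv {P : MorphismProperty (AlgSp.Sp S)} {F : 𝒜 ⥤ᵇ ℬ} {G : 𝒞 ⥤ᵇ 𝒟} {a : 𝒜 ⥤ᵇ 𝒞}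
    {b : ℬ ⥤ᵇ 𝒟} (ha : FibCat.IsEquivOver a) (hb : FibCat.IsEquivOver b)
    (e : BasedFunctor.comp F b ≅ BasedFunctor.comp a G) :
    AlgSt.RepByAlgSpWith P F ↔ AlgSt.RepByAlgSpWith P G := by
  constructor
  · intro h
    obtain ⟨a', ha', ⟨α⟩, ⟨β⟩⟩ := exists_inverse ha
    obtain ⟨b', hb', ⟨γ⟩, ⟨δ⟩⟩ := exists_inverse hb
    -- `G ⋙ b' ≅ a' ⋙ F`
    have i1 : BasedFunctor.comp G b' ≅ BasedFunctor.comp (BasedFunctor.comp (BasedFunctor.comp a' a) G) b' :=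
      wr (wr β.symm G) b'
    have i2 : BasedFunctor.comp (BasedFunctor.comp (BasedFunctor.comp a' a) G) b' ≅
        BasedFunctor.comp (BasedFunctor.comp a' (BasedFunctor.comp F b)) b' := wr (wl a' e.symm) b'
    have i3 : BasedFunctor.comp (BasedFunctor.comp a' (BasedFunctor.comp F b)) b' ≅ BasedFunctor.comp a' F :=
      wl (BasedFunctor.comp a' F) γ
    exact (isCart_of_equiv (e := i1 ≪≫ i2 ≪≫ i3) ha' hb').repByAlgSpWith h
  · intro h
    exact (isCart_of_equiv (e := e) ha hb).repByAlgSpWith h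

variable {𝒳 : BasedCategory.{v₂, u₂} (Over S)} {𝒴 : BasedCategory.{v₃, u₃} (Over S)} (f : 𝒳 ⥤ᵇ 𝒴)
  {P : MorphismProperty (AlgSp.Sp S)}

theorem repByAlgSpWith_inertiaToBase (h : AlgSt.RepByAlgSpWith P (FibCat.diag f)) :
    AlgSt.RepByAlgSpWith P (FibCat.inertiaToBase f) := (inertia_isCart f).repByAlgSpWith h

theorem repByAlgSpWith_inertiaNeutral_iff : AlgSt.RepByAlgSpWith P (FibCat.inertiaNeutral f) ↔
    AlgSt.RepByAlgSpWith P (FibCat.diag (FibCat.diag f)) :=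
  repByAlgSpWith_iff_of_equiv (isEquivOver_refl 𝒳) (isEquivOver_toFp f) (neutral_toFp f)

theorem repByAlgSpWith_inertiaToBase_iff : AlgSt.RepByAlgSpWith P (FibCat.inertiaToBase f) ↔
    AlgSt.RepByAlgSpWith P (FibCat.fpFst (FibCat.diag f) (FibCat.diag f)) :=
  repByAlgSpWith_iff_of_equiv (isEquivOver_toFp f) (isEquivOver_refl 𝒳) (Iso.refl _)

end Sp

section Section

variable {S : Scheme.{u}} {𝒳 : BasedCategory.{v₂, u₂} (Over S)} {𝒯 : BasedCategory.{v₃, u₃} (Over S)}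

/-- A section `s` of `f` has every property `P` of the diagonal of `f`. -/
theorem repByAlgSpWith_section {P : MorphismProperty (AlgSp.Sp S)} (f : 𝒳 ⥤ᵇ 𝒯) (s : 𝒯 ⥤ᵇ 𝒳)
    (e : BasedFunctor.comp s f ≅ BasedFunctor.id 𝒯) (h : AlgSt.RepByAlgSpWith P (FibCat.diag f)) :
    AlgSt.RepByAlgSpWith P s := by
  have e' : BasedFunctor.comp (BasedFunctor.id 𝒯) (BasedFunctor.id 𝒯) ≅ BasedFunctor.comp s f := e.symm
  have h1 := (K743.DiagBC.graph_isCart (BasedFunctor.id 𝒯) f s e').repByAlgSpWith h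
  exact (repByAlgSpWith_iff_of_equiv (F := FibCat.fpLift (BasedFunctor.id 𝒯) s e') (G := s)
    (a := BasedFunctor.id 𝒯) (b := FibCat.fpSnd (BasedFunctor.id 𝒯) f) (isEquivOver_refl 𝒯)
    (isEquivOver_fpSnd _ _ (isEquivOver_refl 𝒯)) (Iso.refl _)).1 h1

end Section

end K740.Inertia
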