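import Groth.Agent.Etbase.FpqcDescent
import Mathlib.AlgebraicGeometry.Morphisms.FormallyUnramified
import Mathlib.AlgebraicGeometry.Morphisms.QuasiFinite
import Mathlib.AlgebraicGeometry.Fiber

/-!
# Descent of a property of `f : X ⟶ Y` from its base change along itself `X ×_Y X ⟶ X` (schemes)

* `formallyUnramified_of_self`
* `locallyQuasiFinite_of_self`
-/

set_option autoImplicit false
universe u
open CategoryTheory CategoryTheory.Limits AlgebraicGeometry Opposite

namespace K740.SelfSch

variable {X Y : Scheme.{u}}

/-- A morphism locally of finite type is unramified as soon as its base change along itself is. -/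
theorem formallyUnramified_of_self (f : X ⟶ Y) [LocallyOfFiniteType f]
    (h : FormallyUnramified (pullback.fst f f)) : FormallyUnramified f := by
  have h1 : IsOpenImmersion (pullback.diagonal (pullback.fst f f)) := inferInstance
  -- the map `(x, y) ↦ ((x, x), (x, y))`
  obtain ⟨s, hs1, hs2⟩ : ∃ s : pullback f f ⟶ pullback (pullback.fst f f) (pullback.fst f f),
      s ≫ pullback.fst _ _ = pullback.fst f f ≫ pullback.diagonal f ∧ s ≫ pullback.snd _ _ = 𝟙 _ :=
    ⟨pullback.lift (pullback.fst f f ≫ pullback.diagonal f) (𝟙 _) (by simp), pullback.lift_fst _ _ _,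
      pullback.lift_snd _ _ _⟩
  have key : ∀ {T : Scheme.{u}} (a b : T ⟶ pullback f f), a ≫ s = b ≫ pullback.diagonal (pullback.fst f f) →
      a ≫ pullback.fst f f ≫ pullback.diagonal f = b ∧ a = b := by
    intro T a b hab
    constructor
    · have := congrArg (fun k => k ≫ pullback.fst _ _) hab
      simpa [hs1] using this
    · have := congrArg (fun k => k ≫ pullback.snd _ _) hab
      simpa [hs2] using this
  have sq : IsPullback (pullback.diagonal f) (pullback.diagonal f) s
      (pullback.diagonal (pullback.fst f f)) := by
    refine IsPullback.of_isLimit' ⟨?_⟩ (PullbackCone.IsLimit.mk _ (fun c => c.fst ≫ pullback.fst f f) ?_ ?_ ?_)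
    · apply pullback.hom_ext
      · simp [hs1]
      · simp [hs2]
    · intro c
      obtain ⟨e1, e2⟩ := key _ _ c.condition
      rw [Category.assoc, e1, e2]
    · intro c
      obtain ⟨e1, e2⟩ := key _ _ c.condition
      rw [Category.assoc, e1]
    · intro c m hm1 hm2
      rw [← hm1]; simp
  have h2 : IsOpenImmersion (pullback.diagonal f) :=
    MorphismProperty.of_isPullback (P := @IsOpenImmersion) sq.flip h1
  infer_instance

/-- A morphism is locally quasi-finite as soon as its base change along itself is. -/
theorem locallyQuasiFinite_of_self (f : X ⟶ Y) (h : LocallyQuasiFinite (pullback.fst f f)) :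
    LocallyQuasiFinite f := by
  refine LocallyQuasiFinite.of_fiberToSpecResidueField f (fun y => ?_)
  by_cases hy : ∃ x : X, f x = y
  · obtain ⟨x, rfl⟩ := hy
    have sq := isPullback_fiberToSpecResidueField_of_isPullback (IsPullback.of_hasPullback f f).flip x
    have h1 : LocallyQuasiFinite ((pullback.fst f f).fiberToSpecResidueField x) :=
      MorphismProperty.pullback_snd _ _ h
    have hQ : (@Surjective ⊓ @Flat ⊓ @QuasiCompact : MorphismProperty Scheme.{u})
        (Spec.map (f.residueFieldMap x)) := by
      refine ⟨⟨?_, ?_⟩, inferInstance⟩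
      · refine ⟨fun z => ⟨IsLocalRing.closedPoint (X.residueField x), ?_⟩⟩
        exact Subsingleton.elim (α := PrimeSpectrum _) _ _
      · rw [HasRingHomProperty.Spec_iff (P := @Flat)]
        letI := (f.residueFieldMap x).hom.toAlgebra
        exact (inferInstance : Module.Flat (Y.residueField (f x)) (X.residueField x))
    exact MorphismProperty.of_isPullback_of_descendsAlong (P := @LocallyQuasiFinite)
      (Q := (@Surjective ⊓ @Flat ⊓ @QuasiCompact : MorphismProperty Scheme.{u})) sq.flip hQ h1
  · have : IsEmpty (f.fiber y) := by
      refine ⟨fun z => hy ⟨f.fiberι y z, ?_⟩⟩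
      have : f.fiberι y z ∈ Set.range (f.fiberι y) := ⟨z, rfl⟩
      rwa [Scheme.Hom.range_fiberι] at this
    infer_instance

end K740.SelfSch
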