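import Groth.Agent.AlgSt.K740.RepBC
import Groth.Agent.AlgSt.K740.Inertia
import Groth.Agent.AlgSt.K740.SelfSch

/-!
# Descent of étale-local properties of `f` from its base change along itself

* `locP_respectsIso` : `LocP P` respects isomorphisms, for every `P`.
* `locP_of_self` : `π : F ⟶ h_U` locally of finite type has `LocP P` as soon as for every étale chart `a : h_W ⟶ F` the
  base change `h_W ×_{h_U} F ⟶ h_W` has `LocP P` (`P` = unramified, locally quasi-finite).
* `repByAlgSpWith_diag_of_inertia` : if the diagonal of `f` is representable and locally of finite type and the relative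
  inertia has `LocP P`, then so does the diagonal.
-/

set_option autoImplicit false
set_option backward.isDefEq.respectTransparency false
set_option backward.isDefEq.respectTransparency.types false

universe v₃ u₃ v₂ u₂ u

open CategoryTheory CategoryTheory.Limits AlgebraicGeometry Opposite

namespace K740.LocSelf

open AlgSp

variable {S : Scheme.{u}}

instance locP_respectsIso (P : MorphismProperty Scheme.{u}) : (LocP P : MorphismProperty (Sp S)).RespectsIso :=
  MorphismProperty.RespectsIso.mk _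
    (fun {X Y Z} e f hf U V a b h ha hb comm =>
      hf (a ≫ e.hom) b h ((MorphismProperty.cancel_right_of_respectsIso _ _ _).2 ha) hb (by
        rw [Category.assoc]; exact comm))
    (fun {X Y Z} e f hf U V a b h ha hb comm =>
      hf a (b ≫ e.inv) h ha ((MorphismProperty.cancel_right_of_respectsIso _ _ _).2 hb) (by
        rw [← Category.assoc, ← comm]; simp))

/-- The fibre product of `U' ⟶ U` and `V' ⟶ U` over `S`, in sheaves. -/
theorem yon_isPullback {U V W : Over S} (f : U ⟶ W) (g : V ⟶ W) :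
    IsPullback ((yon S).map (pullback.fst f g)) ((yon S).map (pullback.snd f g)) ((yon S).map f) ((yon S).map g) :=
  (IsPullback.of_hasPullback f g).map (yon S)

theorem locP_of_self {P : MorphismProperty Scheme.{u}} [P.RespectsIso]
    (hself : ∀ {X Y : Scheme.{u}} (f : X ⟶ Y) [LocallyOfFiniteType f], P (pullback.fst f f) → P f)
    (hc : ∀ {X Y Z : Scheme.{u}} (f : X ⟶ Y) (g : Y ⟶ Z), P (f ≫ g) → P f)
    {F : Sp S} {U : Over S} {π : F ⟶ (yon S).obj U} (hlft : LocP @LocallyOfFiniteType π)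
    (H : ∀ {W : Over S} (a : (yon S).obj W ⟶ F), RepWith @Etale a →
      ∃ (Q : Sp S) (q₁ : Q ⟶ (yon S).obj W) (q₂ : Q ⟶ F), IsPullback q₁ q₂ (a ≫ π) π ∧ LocP P q₁) :
    LocP P π := by
  intro W V a b h ha hb comm
  obtain ⟨Q, q₁, q₂, sq, hq⟩ := H a ha
  obtain ⟨b, rfl⟩ := (yon S).map_surjective b
  rw [← Functor.map_comp] at comm
  -- the morphism `W ⟶ U`
  have h1 : LocallyOfFiniteType (h ≫ b).left :=
    hlft a (𝟙 _) (h ≫ b) ha (repWith_id _ U) (by rw [comm, Category.comp_id])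
  have sq0 := yon_isPullback (h ≫ b) (h ≫ b)
  -- the chart `W ×_U W` of `Q`
  obtain ⟨c, hc1, hc2⟩ : ∃ c : (yon S).obj (pullback (h ≫ b) (h ≫ b)) ⟶ Q,
      c ≫ q₁ = (yon S).map (pullback.fst (h ≫ b) (h ≫ b)) ∧
      c ≫ q₂ = (yon S).map (pullback.snd (h ≫ b) (h ≫ b)) ≫ a := by
    refine ⟨sq.lift ((yon S).map (pullback.fst (h ≫ b) (h ≫ b)))
      ((yon S).map (pullback.snd (h ≫ b) (h ≫ b)) ≫ a) ?_, sq.lift_fst _ _ _, sq.lift_snd _ _ _⟩
    rw [Category.assoc, comm, ← Functor.map_comp, ← Functor.map_comp, pullback.condition]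
  have sq1 : IsPullback (c ≫ q₁) ((yon S).map (pullback.snd (h ≫ b) (h ≫ b))) (a ≫ π) (a ≫ π) := by
    rw [hc1, comm]; exact sq0
  have sq2 : IsPullback ((yon S).map (pullback.snd (h ≫ b) (h ≫ b))) c a q₂ :=
    IsPullback.of_bot sq1.flip hc2.symm sq.flip
  have hce : RepWith @Etale c := MorphismProperty.of_isPullback sq2 ha
  have h2 : P (pullback.fst (h ≫ b) (h ≫ b)).left :=
    hq c (𝟙 _) _ hce (repWith_id _ W) (by rw [hc1, Category.comp_id])
  have sq3 : IsPullback (pullback.fst (h ≫ b) (h ≫ b)).left (pullback.snd (h ≫ b) (h ≫ b)).left (h ≫ b).left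
      (h ≫ b).left := (IsPullback.of_hasPullback (h ≫ b) (h ≫ b)).map (Over.forget S)
  have h3 : P (pullback.fst (h ≫ b).left (h ≫ b).left) := by
    rw [← sq3.isoPullback_inv_fst]
    exact (MorphismProperty.cancel_left_of_respectsIso P _ _).2 h2
  exact hc _ _ (hself _ h3)

section Stack

open K734.Fib K735.Rep K740.RepBC

variable {𝒳 : BasedCategory.{v₂, u₂} (Over S)} {𝒴 : BasedCategory.{v₃, u₃} (Over S)}

/-- The classifying functor of a point `a : h_W ⟶ F` of the space `F` representing `(Sch/U) ×_𝒲 𝒳`. -/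
theorem exists_iso_point {𝒲 : BasedCategory.{v₃, u₃} (Over S)} {U : Over S} (y : FibCat.overCat U ⥤ᵇ 𝒲)
    (g : 𝒳 ⥤ᵇ 𝒲) {F : Sp S} (e : AlgSt.ofSp F ⥤ᵇ FibCat.fp y g) {W : Over S} (a : (yon S).obj W ⟶ F) (m : W ⟶ U)
    (hm : (yon S).map m = a ≫ AlgSt.spMapOfOver (BasedFunctor.comp e (FibCat.fpFst y g))) :
    Nonempty (BasedFunctor.comp (BasedFunctor.comp (AlgSt.ofOverCat W) (BasedFunctor.comp (AlgSt.ofSpMap a)
      (BasedFunctor.comp e (FibCat.fpSnd y g)))) g ≅ BasedFunctor.comp (AlgSt.overMap m) y) := by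
  obtain ⟨j⟩ := exists_iso_spMapOfOver (BasedFunctor.comp e (FibCat.fpFst y g))
  let k := BasedFunctor.comp (AlgSt.ofOverCat W) (BasedFunctor.comp (AlgSt.ofSpMap a) e)
  have i1 : BasedFunctor.comp (BasedFunctor.comp k (FibCat.fpFst y g)) y ≅
    BasedFunctor.comp (BasedFunctor.comp k (FibCat.fpSnd y g)) g := wl k (FibCat.fpIso y g)
  have i2 : BasedFunctor.comp k (FibCat.fpFst y g) ≅
      BasedFunctor.comp (BasedFunctor.comp (AlgSt.ofOverCat W) (AlgSt.ofSpMap a))
        (BasedFunctor.comp (AlgSt.ofSpMap (AlgSt.spMapOfOver (BasedFunctor.comp e (FibCat.fpFst y g))))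
          (AlgSt.toOverCat U)) := wl (BasedFunctor.comp (AlgSt.ofOverCat W) (AlgSt.ofSpMap a)) j
  have i3 : BasedFunctor.comp (BasedFunctor.comp (AlgSt.ofOverCat W) (AlgSt.ofSpMap a))
        (BasedFunctor.comp (AlgSt.ofSpMap (AlgSt.spMapOfOver (BasedFunctor.comp e (FibCat.fpFst y g))))
          (AlgSt.toOverCat U)) ≅ AlgSt.overMap m := by
    have : BasedFunctor.comp (BasedFunctor.comp (AlgSt.ofOverCat W) (AlgSt.ofSpMap a))
        (BasedFunctor.comp (AlgSt.ofSpMap (AlgSt.spMapOfOver (BasedFunctor.comp e (FibCat.fpFst y g))))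
          (AlgSt.toOverCat U)) = BasedFunctor.comp (AlgSt.ofOverCat W)
            (BasedFunctor.comp (AlgSt.ofSpMap ((yon S).map m)) (AlgSt.toOverCat U)) := by
      rw [hm]; rfl
    rw [this]
    exact (wl (AlgSt.ofOverCat W) (overMapIso m)).symm
  exact ⟨i1.symm ≪≫ wr (i2 ≪≫ i3) y⟩

theorem repByAlgSpWith_diag_of_inertia {P : MorphismProperty Scheme.{u}} [P.RespectsIso]
    (hself : ∀ {X Y : Scheme.{u}} (f : X ⟶ Y) [LocallyOfFiniteType f], P (pullback.fst f f) → P f)
    (hc : ∀ {X Y Z : Scheme.{u}} (f : X ⟶ Y) (g : Y ⟶ Z), P (f ≫ g) → P f) (f : 𝒳 ⥤ᵇ 𝒴)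
    (h1 : AlgSt.RepByAlgSpWith (LocP @LocallyOfFiniteType) (FibCat.diag f))
    (h2 : AlgSt.RepByAlgSpWith (LocP P) (FibCat.inertiaToBase f)) :
    AlgSt.RepByAlgSpWith (LocP P) (FibCat.diag f) := by
  intro U y
  obtain ⟨F, e, he, hπ⟩ := h1 U y
  refine ⟨F, e, he, ?_⟩
  refine locP_of_self hself hc hπ fun {W} a ha => ?_
  obtain ⟨m, hm⟩ := (yon S).map_surjective
    (a ≫ AlgSt.spMapOfOver (BasedFunctor.comp e (FibCat.fpFst y (FibCat.diag f))))
  obtain ⟨α⟩ := exists_iso_point y (FibCat.diag f) e a m hm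
  have hQ := h2 W (BasedFunctor.comp (AlgSt.ofOverCat W) (BasedFunctor.comp (AlgSt.ofSpMap a)
    (BasedFunctor.comp e (FibCat.fpSnd y (FibCat.diag f)))))
  have hQ' : RepOver (LocP P) (FibCat.fpFst (BasedFunctor.comp (BasedFunctor.comp (AlgSt.ofOverCat W)
      (BasedFunctor.comp (AlgSt.ofSpMap a) (BasedFunctor.comp e (FibCat.fpSnd y (FibCat.diag f))))) (FibCat.diag f))
        (FibCat.diag f)) :=
    RepOver.of_equiv hQ _ ((K740.Inertia.inertia_isCart f).cmp_isEquivOver _) (Iso.refl _)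
  obtain ⟨F', q', hq', hP'⟩ := repOver_iff.1 hQ'
  have hb := RepBy.baseChange (q := AlgSt.spMapOfOver (BasedFunctor.comp e (FibCat.fpFst y (FibCat.diag f))))
    ⟨e, he, rfl⟩ m α (IsPullback.of_hasPullback _ _)
  obtain ⟨i, hi⟩ := RepBy.exists_iso hb hq'
  refine ⟨_, _, _, by rw [← hm]; exact IsPullback.of_hasPullback _ _, ?_⟩
  rw [← hi]
  exact (MorphismProperty.cancel_left_of_respectsIso (LocP P) _ _).2 hP'

end Stack

end K740.LocSelf
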