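import Groth.Agent.AlgSt.K740.RepBC
import Groth.Agent.AlgSt.K740.LocSelf
import Groth.Agent.AlgSp.K597.LocP
import Groth.Agent.AlgSp.K596.QC2

/-!
# Properties of morphisms of sheaves respect isomorphisms; conjunctions and equivalences for `RepByAlgSpWith`

* instances `RespectsIso` for `IsSeparatedMor`, `IsLocallySeparatedMor`, `IsQuasiSeparatedMor`, `UnivSp Q`,
  `IsQuasiCompactMor`, `IsFiniteTypeMor`, `IsFinitePresentationMor`, `IsProperMor`, `IsSurjectiveMor`;
* `repByAlgSpWith_inf` : `RepByAlgSpWith P f` and `RepByAlgSpWith Q f` give `RepByAlgSpWith (P ⊓ Q) f`;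
* `repByAlgSpWith_of_isEquivOver` : an equivalence has every property that identities of `h_U` have.
-/

set_option autoImplicit false
set_option backward.isDefEq.respectTransparency false
set_option backward.isDefEq.respectTransparency.types false

universe v₃ u₃ v₂ u₂ u

open CategoryTheory CategoryTheory.Limits AlgebraicGeometry Opposite

namespace K740.SpIso

open AlgSp

variable {S : Scheme.{u}}

section Inst

theorem isPullback_precomp {C : Type*} [Category C] {P X X' Y Z : C} {fst : P ⟶ X'} {snd : P ⟶ Z} {f : X ⟶ Y}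
    {g : Z ⟶ Y} (e : X' ≅ X) (h : IsPullback fst snd (e.hom ≫ f) g) : IsPullback (fst ≫ e.hom) snd f g :=
  h.of_iso (Iso.refl _) e (Iso.refl _) (Iso.refl _) (by simp) (by simp) (by simp) (by simp)

theorem isPullback_postcomp {C : Type*} [Category C] {P X Y Y' Z : C} {fst : P ⟶ X} {snd : P ⟶ Z} {f : X ⟶ Y}
    {g : Z ⟶ Y'} (e : Y ≅ Y') (h : IsPullback fst snd (f ≫ e.hom) g) : IsPullback fst snd f (g ≫ e.inv) :=
  h.of_iso (Iso.refl _) (Iso.refl _) (Iso.refl _) e.symm (by simp) (by simp) (by simp) (by simp)

instance univSp_respectsIso (Q : MorphismProperty (Sp S)) : (UnivSp Q).RespectsIso :=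
  MorphismProperty.RespectsIso.mk _
    (fun {_ _ _} e _ hf _ _ hZ g fst snd sq => hf hZ g (fst ≫ e.hom) snd (isPullback_precomp e sq))
    (fun {_ _ _} e _ hf _ _ hZ g fst snd sq => hf hZ (g ≫ e.inv) fst snd (isPullback_postcomp e sq))

instance isQuasiCompactMor_respectsIso : (IsQuasiCompactMor (S := S)).RespectsIso :=
  MorphismProperty.RespectsIso.mk _
    (fun {_ _ _} e _ hf _ _ hZ hZ' g fst snd sq => hf hZ hZ' g (fst ≫ e.hom) snd (isPullback_precomp e sq))
    (fun {_ _ _} e _ hf _ _ hZ hZ' g fst snd sq => hf hZ hZ' (g ≫ e.inv) fst snd (isPullback_postcomp e sq))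

instance isUnivClosedMor_respectsIso : (IsUnivClosedMor (S := S)).RespectsIso := univSp_respectsIso _

instance isUnivOpenMor_respectsIso : (IsUnivOpenMor (S := S)).RespectsIso := univSp_respectsIso _

instance isUnivInjectiveMor_respectsIso : (IsUnivInjectiveMor (S := S)).RespectsIso := univSp_respectsIso _

instance isUnivHomeoMor_respectsIso : (IsUnivHomeoMor (S := S)).RespectsIso := univSp_respectsIso _

instance isUnivSubmersiveMor_respectsIso : (IsUnivSubmersiveMor (S := S)).RespectsIso := univSp_respectsIso _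

instance isSeparatedMor_respectsIso : (IsSeparatedMor (S := S)).RespectsIso :=
  inferInstanceAs (MorphismProperty.diagonal (RepWith (S := S) @IsClosedImmersion)).RespectsIso

instance isLocallySeparatedMor_respectsIso : (IsLocallySeparatedMor (S := S)).RespectsIso :=
  inferInstanceAs (MorphismProperty.diagonal (RepWith (S := S) @IsImmersion)).RespectsIso

instance isQuasiSeparatedMor_respectsIso : (IsQuasiSeparatedMor (S := S)).RespectsIso :=
  inferInstanceAs (MorphismProperty.diagonal (RepWith (S := S) @QuasiCompact)).RespectsIso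

instance inf_respectsIso {C : Type*} [Category C] (P Q : MorphismProperty C) [P.RespectsIso] [Q.RespectsIso] :
    (P ⊓ Q).RespectsIso :=
  MorphismProperty.RespectsIso.mk _
    (fun {_ _ _} e f hf => ⟨(MorphismProperty.cancel_left_of_respectsIso P e.hom f).2 hf.1,
      (MorphismProperty.cancel_left_of_respectsIso Q e.hom f).2 hf.2⟩)
    (fun {_ _ _} e f hf => ⟨(MorphismProperty.cancel_right_of_respectsIso P f e.hom).2 hf.1,
      (MorphismProperty.cancel_right_of_respectsIso Q f e.hom).2 hf.2⟩)

theorem isFiniteTypeMor_eq : (IsFiniteTypeMor (S := S)) = LocP @LocallyOfFiniteType ⊓ IsQuasiCompactMor := rfl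

theorem isFinitePresentationMor_eq : (IsFinitePresentationMor (S := S)) =
    LocP @LocallyOfFinitePresentation ⊓ (IsQuasiCompactMor ⊓ IsQuasiSeparatedMor) := rfl

theorem isProperMor_eq : (IsProperMor (S := S)) = IsSeparatedMor ⊓ (IsFiniteTypeMor ⊓ IsUnivClosedMor) := rfl

instance isFiniteTypeMor_respectsIso : (IsFiniteTypeMor (S := S)).RespectsIso := by
  rw [isFiniteTypeMor_eq]; infer_instance

instance isFinitePresentationMor_respectsIso : (IsFinitePresentationMor (S := S)).RespectsIso := by
  rw [isFinitePresentationMor_eq]; infer_instance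

instance isProperMor_respectsIso : (IsProperMor (S := S)).RespectsIso := by
  rw [isProperMor_eq]; infer_instance

theorem points_map_bijective {F G : Sp S} (e : F ≅ G) : Function.Bijective (Points.map e.hom) := by
  refine Function.bijective_iff_has_inverse.2 ⟨Points.map e.inv, fun x => ?_, fun x => ?_⟩
  · rw [← Points.map_comp, e.hom_inv_id, Points.map_id]
  · rw [← Points.map_comp, e.inv_hom_id, Points.map_id]

instance isSurjectiveMor_respectsIso : (IsSurjectiveMor (S := S)).RespectsIso :=
  MorphismProperty.RespectsIso.mk _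
    (fun {_ _ _} e f hf => by
      change Function.Surjective (Points.map (e.hom ≫ f))
      have : Points.map (e.hom ≫ f) = Points.map f ∘ Points.map e.hom := funext fun x => Points.map_comp _ _ x
      rw [this]
      exact hf.comp (points_map_bijective e).2)
    (fun {_ _ _} e f hf => by
      change Function.Surjective (Points.map (f ≫ e.hom))
      have : Points.map (f ≫ e.hom) = Points.map e.hom ∘ Points.map f := funext fun x => Points.map_comp _ _ x
      rw [this]
      exact (points_map_bijective e).2.comp hf)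

end Inst

section Id

/-- The identity of an algebraic space is `LocP P` when étale morphisms have `P`. -/
theorem locP_id {P : MorphismProperty Scheme.{u}} (hP : ∀ {X Y : Scheme.{u}} (f : X ⟶ Y), Etale f → P f) (F : Sp S) :
    LocP P (𝟙 F) := by
  have h1 : RepWith @Etale (𝟙 F) := MorphismProperty.id_mem _ F
  have h2 : LocP @Etale (𝟙 F) := K597.locP_of_repWith (fun A B C e f he hf => by
    have := he; have := hf; exact (inferInstance : Etale (e ≫ f))) h1
  exact K597.locP_mono (fun _ _ f hf => hP f hf) h2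

theorem isProperMor_id (U : Over S) : IsProperMor (𝟙 ((yon S).obj U)) := by
  have h0 : ∀ (Q : MorphismProperty Scheme.{u}) [Q.IsStableUnderBaseChange] [Q.ContainsIdentities],
      RepWith Q (𝟙 ((yon S).obj U)) := fun Q _ _ => repWith_id Q U
  refine ⟨?_, ⟨locP_id (P := @LocallyOfFiniteType) (fun f hf => by have := hf; infer_instance) _,
    K596.QC.isQuasiCompactMor_of_repWith (h0 _)⟩, (K596.Univ.repWith_universallyClosed_iff (h0 @Etale).1).1 (h0 _)⟩
  rw [← (yon S).map_id]
  exact (isSeparatedMor_yon_map_iff _).2 (by dsimp; infer_instance)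

theorem locP_unramified_id (F : Sp S) : LocP (@LocallyOfFiniteType ⊓ @FormallyUnramified) (𝟙 F) :=
  locP_id (fun _ hf => by have := hf; exact ⟨inferInstance, inferInstance⟩) F

end Id

section Stack

open K734.Fib K735.Rep

variable {𝒳 : BasedCategory.{v₂, u₂} (Over S)} {𝒴 : BasedCategory.{v₃, u₃} (Over S)}

/-- Two properties of the same representable functor, one of them respecting isomorphisms. -/
theorem repByAlgSpWith_inf {P Q : MorphismProperty (Sp S)} [Q.RespectsIso] {f : 𝒳 ⥤ᵇ 𝒴}
    (hP : AlgSt.RepByAlgSpWith P f) (hQ : AlgSt.RepByAlgSpWith Q f) : AlgSt.RepByAlgSpWith (P ⊓ Q) f := by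
  intro U y
  obtain ⟨F, e, he, h⟩ := hP U y
  exact ⟨F, e, he, h, (RepOver.of_rep (hQ U y) e he).2⟩

/-- Implications between properties may be checked on morphisms from an algebraic space to a scheme. -/
theorem repByAlgSpWith_imp {P Q : MorphismProperty (Sp S)} {f : 𝒳 ⥤ᵇ 𝒴} (hP : AlgSt.RepByAlgSpWith P f)
    (h : ∀ (F : Space S) (U : Over S) (q : F.obj ⟶ (yon S).obj U), P q → Q q) : AlgSt.RepByAlgSpWith Q f := by
  intro U y
  obtain ⟨F, e, he, h'⟩ := hP U y
  exact ⟨F, e, he, h F U _ h'⟩

/-- An equivalence over the base has every property that identities of schemes have. -/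
theorem repByAlgSpWith_of_isEquivOver {P : MorphismProperty (Sp S)} (hP : ∀ U : Over S, P (𝟙 ((yon S).obj U)))
    {g : 𝒳 ⥤ᵇ 𝒴} (hg : FibCat.IsEquivOver g) : AlgSt.RepByAlgSpWith P g := by
  intro U y
  obtain ⟨k', hk', -, ⟨b⟩⟩ := exists_inverse (isEquivOver_fpFst y g hg)
  refine ⟨⟨(yon S).obj U, IsAlgSpace.yon_obj U⟩, BasedFunctor.comp (AlgSt.toOverCat U) k',
    isEquivOver_comp (isEquivOver_toOverCat U) hk', ?_⟩
  have h1 : AlgSt.spMapOfOver (BasedFunctor.comp (BasedFunctor.comp (AlgSt.toOverCat U) k') (FibCat.fpFst y g)) =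
      AlgSt.spMapOfOver (AlgSt.toOverCat U) := spMapOfOver_eq_of_iso (wl (AlgSt.toOverCat U) b)
  rw [h1, spMapOfOver_toOverCat]
  exact hP U

end Stack

end K740.SpIso
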