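import Groth.Agent.AlgSt.K740.Inertia
import Groth.Agent.AlgSt.K735.Rep
import Groth.Agent.Stk.K751.Inv

/-!
# Algebraic stacks and Deligne-Mumford stacks are invariant under equivalence over the base (any universes, any topology)
-/

set_option autoImplicit false
set_option backward.isDefEq.respectTransparency false
set_option backward.isDefEq.respectTransparency.types false

universe v₃ u₃ v₂ u₂ u

open CategoryTheory CategoryTheory.Limits AlgebraicGeometry Opposite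

namespace K740.Inv

open K734.Fib

variable {S : Scheme.{u}} {𝒳 : BasedCategory.{v₂, u₂} (Over S)} {𝒴 : BasedCategory.{v₃, u₃} (Over S)}

/-- A functor over the base commutes with the structure functors. -/
def selfIso (e : 𝒳 ⥤ᵇ 𝒴) : BasedFunctor.comp e (FibCat.toSelf 𝒴) ≅
    BasedFunctor.comp (FibCat.toSelf 𝒳) (BasedFunctor.id _) :=
  mkIso (fun x => eqToIso (e.w_obj x)) (fun x => IsVert.eqToHom (e.w_obj x)) (fun {x y} f => by
    have h := K735.Fib.map_map e f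
    change 𝒴.p.map (e.map f) ≫ eqToHom (e.w_obj y) = eqToHom (e.w_obj x) ≫ 𝒳.p.map f
    rw [h]; simp)

/-- The square `diag 𝒳`, `diag 𝒴` attached to a functor over the base. -/
def diagSelfMap (e : 𝒳 ⥤ᵇ 𝒴) : FibCat.fp (FibCat.toSelf 𝒳) (FibCat.toSelf 𝒳) ⥤ᵇ
    FibCat.fp (FibCat.toSelf 𝒴) (FibCat.toSelf 𝒴) :=
  fpMap e e (BasedFunctor.id _) (selfIso e) (selfIso e)

theorem isEquivOver_diagSelfMap {e : 𝒳 ⥤ᵇ 𝒴} (he : FibCat.IsEquivOver e) : FibCat.IsEquivOver (diagSelfMap e) :=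
  isEquivOver_fpMap e e (BasedFunctor.id _) (selfIso e) (selfIso e) he he (full_of (isEquivOver_refl _))
    (faithful_of (isEquivOver_refl _))

def diagSelfIso (e : 𝒳 ⥤ᵇ 𝒴) : BasedFunctor.comp (FibCat.diag (FibCat.toSelf 𝒳)) (diagSelfMap e) ≅
    BasedFunctor.comp e (FibCat.diag (FibCat.toSelf 𝒴)) :=
  liftExt (α := (Iso.refl _ : BasedFunctor.comp (BasedFunctor.comp (FibCat.diag (FibCat.toSelf 𝒳)) (diagSelfMap e))
      (FibCat.fpFst _ _) ≅ e)) (β := (Iso.refl _ : BasedFunctor.comp (BasedFunctor.comp (FibCat.diag (FibCat.toSelf 𝒳))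
        (diagSelfMap e)) (FibCat.fpSnd _ _) ≅ e)) (fun x => by
    change 𝒴.p.map (𝟙 (e.obj x)) ≫ 𝟙 (𝒴.p.obj (e.obj x)) =
      (eqToHom (e.w_obj x) ≫ 𝟙 (𝒳.p.obj x) ≫ eqToHom (e.w_obj x).symm) ≫ 𝒴.p.map (𝟙 (e.obj x))
    simp)

theorem repByAlgSpWith_diagSelf_iff (P : MorphismProperty (AlgSp.Sp S)) {e : 𝒳 ⥤ᵇ 𝒴} (he : FibCat.IsEquivOver e) :
    AlgSt.RepByAlgSpWith P (FibCat.diag (FibCat.toSelf 𝒳)) ↔
      AlgSt.RepByAlgSpWith P (FibCat.diag (FibCat.toSelf 𝒴)) :=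
  K740.Inertia.repByAlgSpWith_iff_of_equiv he (isEquivOver_diagSelfMap he) (diagSelfIso e)

theorem hasAtlas_of {P : MorphismProperty (AlgSp.Sp S)} {e : 𝒳 ⥤ᵇ 𝒴} (he : FibCat.IsEquivOver e)
    (h : AlgSt.HasAtlas P 𝒳) : AlgSt.HasAtlas P 𝒴 := by
  obtain ⟨U, x, h1, h2⟩ := h
  have key : ∀ Q : MorphismProperty (AlgSp.Sp S), AlgSt.RepByAlgSpWith Q x →
      AlgSt.RepByAlgSpWith Q (BasedFunctor.comp x e) := fun Q hQ =>
    (K740.Inertia.repByAlgSpWith_iff_of_equiv (F := x) (G := BasedFunctor.comp x e) (a := BasedFunctor.id _) (b := e)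
      (isEquivOver_refl _) he (Iso.refl _)).1 hQ
  exact ⟨U, BasedFunctor.comp x e, key _ h1, key _ h2⟩

theorem hasAtlas_iff {P : MorphismProperty (AlgSp.Sp S)} {e : 𝒳 ⥤ᵇ 𝒴} (he : FibCat.IsEquivOver e) :
    AlgSt.HasAtlas P 𝒳 ↔ AlgSt.HasAtlas P 𝒴 := by
  obtain ⟨e', he', -, -⟩ := exists_inverse he
  exact ⟨hasAtlas_of he, hasAtlas_of he'⟩

/-- Invariance of algebraic stacks under equivalence. -/
theorem isAlgStack_iff (K : Precoverage Scheme.{u}) {e : 𝒳 ⥤ᵇ 𝒴} (he : FibCat.IsEquivOver e) :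
    AlgSt.IsAlgStack K 𝒳 ↔ AlgSt.IsAlgStack K 𝒴 := by
  have h1 := K751.Inv.isStack_iff_of_isEquivOver (J := QuotSh.J K S) he
  have h2 := repByAlgSpWith_diagSelf_iff ⊤ he
  rw [← K735.Rep.repByAlgSp1_iff_top, ← K735.Rep.repByAlgSp1_iff_top] at h2
  have h3 := hasAtlas_iff (P := AlgSp.LocP @Smooth) he
  exact ⟨fun h => ⟨h1.1 h.isStack, h2.1 h.diag, h3.1 h.atlas⟩, fun h => ⟨h1.2 h.isStack, h2.2 h.diag, h3.2 h.atlas⟩⟩

/-- Invariance of Deligne-Mumford stacks under equivalence. -/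
theorem isDM_iff (K : Precoverage Scheme.{u}) {e : 𝒳 ⥤ᵇ 𝒴} (he : FibCat.IsEquivOver e) :
    AlgSt.IsDM K 𝒳 ↔ AlgSt.IsDM K 𝒴 :=
  and_congr (isAlgStack_iff K he) (hasAtlas_iff he)

end K740.Inv
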