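import Groth.Agent.AlgSt.K740.DiagRep
import Groth.Agent.AlgSt.K740.Inv
import Groth.Agent.AlgSt.K744.TorsProp
import Groth.Agent.AlgSp.K597.EtLoc
import Groth.Agent.Stk.K751.OfPsh

/-!
# Algebraic spaces are Deligne-Mumford stacks

* `repByAlgSpWith_ofSpMap` : `ofSpMap a` has `P` when the base changes of `a` to schemes do;
* `repByAlgSpWith_ofSpMap_of_repWith` : the case of a map representable by schemes;
* `repByAlgSpWith_comp_equiv` : composing with equivalences;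
* `isAlgStack_ofSp`, `isDM_ofSp`, `isAlgStack_of_repByAlgSp`, `isDM_of_repByAlgSp` (S12772).
-/

set_option autoImplicit false
set_option backward.isDefEq.respectTransparency false
set_option backward.isDefEq.respectTransparency.types false

universe v₄ u₄ v₃ u₃ v₂ u₂ u

open CategoryTheory CategoryTheory.Limits AlgebraicGeometry Opposite

namespace K740.SpDM

open K734.Fib K735.Rep K740.RepBC AlgSp

variable {S : Scheme.{u}}

section Map

/-- The base change of `ofSpMap a` along `y : (Sch/V) ⥤ᵇ ofSp G`. -/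
theorem repBy_fpFst_ofSpMap {F G Q : Sp S} {V : Over S} (a : F ⟶ G) (y : FibCat.overCat V ⥤ᵇ AlgSt.ofSp G)
    {η : (yon S).obj V ⟶ G} (i : BasedFunctor.comp (AlgSt.toOverCat V) y ≅ AlgSt.ofSpMap η)
    {q₁ : Q ⟶ (yon S).obj V} {q₂ : Q ⟶ F} (sq : IsPullback q₁ q₂ η a) : RepBy q₁ (FibCat.fpFst y (AlgSt.ofSpMap a)) := by
  have h1 : RepBy q₁ (BasedFunctor.comp (FibCat.fpFst (AlgSt.ofSpMap η) (AlgSt.ofSpMap a)) (AlgSt.toOverCat V)) :=
    (repBy_ofSpMap q₁).of_equiv _ (isEquivOver_fpOfSp sq) (Iso.refl _)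
  exact h1.of_equiv (K734.Fib.fpMap (AlgSt.toOverCat V) (BasedFunctor.id _) (BasedFunctor.id _) i (Iso.refl _))
    (K734.Fib.isEquivOver_fpMap _ _ _ _ _ (isEquivOver_toOverCat V) (isEquivOver_refl _)
      (full_of (isEquivOver_refl _)) (faithful_of (isEquivOver_refl _))) (Iso.refl _)

theorem repByAlgSpWith_ofSpMap {P : MorphismProperty (Sp S)} {F G : Sp S} (a : F ⟶ G)
    (h : ∀ (V : Over S) (η : (yon S).obj V ⟶ G), ∃ (Q : Sp S) (q₁ : Q ⟶ (yon S).obj V) (q₂ : Q ⟶ F),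
      IsAlgSpace Q ∧ IsPullback q₁ q₂ η a ∧ P q₁) : AlgSt.RepByAlgSpWith P (AlgSt.ofSpMap a) := by
  intro V y
  obtain ⟨i⟩ := exists_iso_spMap (BasedFunctor.comp (AlgSt.toOverCat V) y)
  obtain ⟨Q, q₁, q₂, hQ, sq, hP⟩ := h V _
  obtain ⟨e, he, rfl⟩ := repBy_fpFst_ofSpMap a y i sq
  exact ⟨⟨Q, hQ⟩, e, he, hP⟩

/-- A map of sheaves representable by schemes. -/
theorem repByAlgSpWith_ofSpMap_of_repWith {P : MorphismProperty (Sp S)} {Q : MorphismProperty Scheme.{u}} {F G : Sp S}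
    (a : F ⟶ G) (ha : RepWith Q a) (h : ∀ {W V : Over S} (w : W ⟶ V), Q w.left → P ((yon S).map w)) :
    AlgSt.RepByAlgSpWith P (AlgSt.ofSpMap a) := by
  refine repByAlgSpWith_ofSpMap a fun V η => ?_
  obtain ⟨W, fst, w, sq, hw⟩ := K597.exists_sq ha η
  exact ⟨_, (yon S).map w, fst, IsAlgSpace.yon_obj _, sq.flip, h w hw⟩

end Map

section Equiv

variable {𝒜 : BasedCategory.{v₂, u₂} (Over S)} {ℬ : BasedCategory.{v₃, u₃} (Over S)}
  {𝒞 : BasedCategory.{v₄, u₄} (Over S)} {P : MorphismProperty (Sp S)}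

theorem repByAlgSpWith_comp_equiv {x : 𝒜 ⥤ᵇ ℬ} {e : ℬ ⥤ᵇ 𝒞} (he : FibCat.IsEquivOver e) :
    AlgSt.RepByAlgSpWith P (BasedFunctor.comp x e) ↔ AlgSt.RepByAlgSpWith P x :=
  (K740.Inertia.repByAlgSpWith_iff_of_equiv (F := x) (G := BasedFunctor.comp x e) (a := BasedFunctor.id _) (b := e)
      (isEquivOver_refl _) he (Iso.refl _)).symm

theorem repByAlgSpWith_equiv_comp {e : 𝒜 ⥤ᵇ ℬ} {x : ℬ ⥤ᵇ 𝒞} (he : FibCat.IsEquivOver e) :
    AlgSt.RepByAlgSpWith P (BasedFunctor.comp e x) ↔ AlgSt.RepByAlgSpWith P x :=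
  K740.Inertia.repByAlgSpWith_iff_of_equiv (F := BasedFunctor.comp e x) (G := x) (a := e) (b := BasedFunctor.id _)
      he (isEquivOver_refl _) (Iso.refl _)

end Equiv

section DM

theorem isStack_ofSp (F : Sp S) : Stk.IsStack (QuotSh.J Scheme.fppfPrecoverage S) (AlgSt.ofSp F) :=
  (K751.OfPsh.isStack_ofPsh_iff _).2 ((isSheaf_iff_isSheaf_of_type _ _).1 F.property)

theorem repByAlgSp1_diag_ofSp {F : Sp S} (hF : IsAlgSpace F) :
    AlgSt.RepByAlgSp1 (FibCat.diag (FibCat.toSelf (AlgSt.ofSp F))) := by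
  have hr : AlgSt.RepByAlgSp (AlgSt.ofSp F) := ⟨⟨F, hF⟩, BasedFunctor.id _, isEquivOver_refl _⟩
  refine (K740.DiagRep.repByAlgSp1_diag_iff (isFibGrpd_ofSp F)).2 fun U x V y => ?_
  exact K740.DiagRep.repByAlgSp_fp y x (repByAlgSp_overCat V) (repByAlgSp_overCat U) hr

theorem exists_chart_ofSp {F : Sp S} (hF : IsAlgSpace F) : ∃ (U : Over S) (x : FibCat.overCat U ⥤ᵇ AlgSt.ofSp F),
    AlgSt.RepByAlgSpWith (LocP @Smooth) x ∧ AlgSt.RepByAlgSpWith IsEtaleMor x ∧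
      AlgSt.RepByAlgSpWith IsSurjectiveMor x := by
  obtain ⟨U, p, hp1, hp2⟩ := hF.atlas
  refine ⟨U, BasedFunctor.comp (AlgSt.ofOverCat U) (AlgSt.ofSpMap p), ?_, ?_, ?_⟩ <;>
    refine (repByAlgSpWith_equiv_comp (isEquivOver_ofOverCat U)).2 ?_
  · refine repByAlgSpWith_ofSpMap_of_repWith p hp1 fun w hw => ?_
    have hw' : Etale w.left := hw
    exact K744.TorsProp.locP_yon @Smooth K597.etLoc_smooth w (inferInstance : Smooth w.left)
  · exact repByAlgSpWith_ofSpMap_of_repWith p hp1 fun w hw => (isEtaleMor_yon_map_iff w).2 hw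
  · exact repByAlgSpWith_ofSpMap_of_repWith p hp2 fun w hw => K744.TorsProp.surj_yon w hw

theorem isDM_ofSp {F : Sp S} (hF : IsAlgSpace F) : AlgSt.IsDM Scheme.fppfPrecoverage (AlgSt.ofSp F) := by
  obtain ⟨U, x, h1, h2, h3⟩ := exists_chart_ofSp hF
  exact ⟨⟨isStack_ofSp F, repByAlgSp1_diag_ofSp hF, U, x, h1, h3⟩, U, x, h2, h3⟩

theorem isAlgStack_ofSp {F : Sp S} (hF : IsAlgSpace F) : AlgSt.IsAlgStack Scheme.fppfPrecoverage (AlgSt.ofSp F) :=
  (isDM_ofSp hF).1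

theorem isDM_of_repByAlgSp {𝒳 : BasedCategory.{v₂, u₂} (Over S)} (h : AlgSt.RepByAlgSp 𝒳) :
    AlgSt.IsDM Scheme.fppfPrecoverage 𝒳 := by
  obtain ⟨F, e, he⟩ := h
  exact (K740.Inv.isDM_iff _ he).1 (isDM_ofSp F.property)

theorem isAlgStack_of_repByAlgSp {𝒳 : BasedCategory.{v₂, u₂} (Over S)} (h : AlgSt.RepByAlgSp 𝒳) :
    AlgSt.IsAlgStack Scheme.fppfPrecoverage 𝒳 := (isDM_of_repByAlgSp h).1

end DM

end K740.SpDM
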