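import Groth.Agent.AlgSt.K740.RepBC
import Groth.Agent.AlgSt.K743.DiagBC
import Groth.Agent.AlgSp.K613.Chart
import Groth.Agent.AlgSt.K734.RepSp
import Groth.Agent.AlgSt.K735.Fp

/-!
# 2-fibre products of categories representable by algebraic spaces, and the criterion for a representable diagonal

* `repByAlgSp_fp` : `fp F G` is representable when source categories and base are;
* `repByAlgSp_selfOver` : the base category is representable (by the base scheme);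
* `repByAlgSp_of_rep1` : `F : 𝒜 ⥤ᵇ 𝒟` representable and `𝒟` representable give `𝒜` representable;
* `repByAlgSp1_diag_iff` (S12765).
-/

set_option autoImplicit false
set_option backward.isDefEq.respectTransparency false
set_option backward.isDefEq.respectTransparency.types false

universe v₄ u₄ v₃ u₃ v₂ u₂ u

open CategoryTheory CategoryTheory.Limits AlgebraicGeometry Opposite

namespace K740.DiagRep

open K734.Fib K735.Rep K740.RepBC

variable {S : Scheme.{u}}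

section Fp

variable {𝒜 : BasedCategory.{v₂, u₂} (Over S)} {ℬ : BasedCategory.{v₃, u₃} (Over S)}
  {𝒟 : BasedCategory.{v₄, u₄} (Over S)}

/-- 2-fibre products of categories representable by algebraic spaces. -/
theorem repByAlgSp_fp (F : 𝒜 ⥤ᵇ 𝒟) (G : ℬ ⥤ᵇ 𝒟) (hA : AlgSt.RepByAlgSp 𝒜) (hB : AlgSt.RepByAlgSp ℬ)
    (hD : AlgSt.RepByAlgSp 𝒟) : AlgSt.RepByAlgSp (FibCat.fp F G) := by
  obtain ⟨A, a, ha⟩ := hA
  obtain ⟨B, b, hb⟩ := hB
  obtain ⟨D, d, hd⟩ := hD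
  obtain ⟨d', hd', ⟨i1⟩, ⟨i2⟩⟩ := exists_inverse hd
  obtain ⟨jf⟩ := exists_iso_spMap (BasedFunctor.comp (BasedFunctor.comp a F) d')
  obtain ⟨jg⟩ := exists_iso_spMap (BasedFunctor.comp (BasedFunctor.comp b G) d')
  have α : BasedFunctor.comp a F ≅
      BasedFunctor.comp (AlgSt.ofSpMap (spMap (BasedFunctor.comp (BasedFunctor.comp a F) d'))) d :=
    (wl (BasedFunctor.comp a F) i2.symm : BasedFunctor.comp (BasedFunctor.comp a F) (BasedFunctor.id _) ≅ _) ≪≫ wr jf d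
  have β : BasedFunctor.comp b G ≅
      BasedFunctor.comp (AlgSt.ofSpMap (spMap (BasedFunctor.comp (BasedFunctor.comp b G) d'))) d :=
    (wl (BasedFunctor.comp b G) i2.symm : BasedFunctor.comp (BasedFunctor.comp b G) (BasedFunctor.id _) ≅ _) ≪≫ wr jg d
  have h1 : AlgSt.RepByAlgSp (FibCat.fp (AlgSt.ofSpMap (spMap (BasedFunctor.comp (BasedFunctor.comp a F) d')))
      (AlgSt.ofSpMap (spMap (BasedFunctor.comp (BasedFunctor.comp b G) d')))) :=
    ⟨⟨pullback _ _, K613.Chart.isAlgSpace_pullback A.property B.property D.property _ _⟩, _,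
      isEquivOver_fpOfSp (IsPullback.of_hasPullback _ _)⟩
  exact repByAlgSp_of_equiv h1 (fpMap a b d α β)
    (isEquivOver_fpMap a b d α β ha hb (full_of hd) (faithful_of hd))

end Fp

section Self

/-- The slice over a final object is the base category. -/
theorem isEquivOver_toSelf_overCat {C : Type*} [Category C] {T : C} (hT : IsTerminal T) :
    FibCat.IsEquivOver (FibCat.toSelf (FibCat.overCat T)) := by
  refine isEquivOver_of ⟨fun {a b} f => ?_⟩ ⟨fun {a b} f g h => ?_⟩ (fun x => ?_)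
  · exact ⟨Over.homMk f (hT.hom_ext _ _), rfl⟩
  · exact Over.OverMorphism.ext h
  · exact ⟨Over.mk (hT.from x), Iso.refl _, IsVert.id _⟩

variable (S) in
theorem repByAlgSp_selfOver : AlgSt.RepByAlgSp (FibCat.selfOver (Over S)) :=
  repByAlgSp_of_equiv (repByAlgSp_overCat (Over.mk (𝟙 S))) _ (isEquivOver_toSelf_overCat Over.mkIdTerminal)

end Self

section Rep1

variable {𝒲 𝒵 : AlgSt.Cat S}

/-- A category with a representable functor to a representable category is representable. -/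
theorem repByAlgSp_of_rep1 (h𝒲 : FibCat.IsFibGrpd 𝒲.p) (h𝒵 : FibCat.IsFibGrpd 𝒵.p) (h : 𝒲 ⥤ᵇ 𝒵)
    (hh : AlgSt.RepByAlgSp1 h) (hZ : AlgSt.RepByAlgSp 𝒵) : AlgSt.RepByAlgSp 𝒲 := by
  obtain ⟨D, e, he⟩ := hZ
  exact repByAlgSp_of_equiv (K734.Rep.repByAlgSp_fp (𝒵 := AlgSt.ofSp D.obj) h𝒲 h𝒵 e hh
    ⟨D, BasedFunctor.id _, isEquivOver_refl _⟩) (FibCat.fpSnd e h) (isEquivOver_fpSnd e h he)

end Rep1

section Diag

variable {𝒳 : AlgSt.Cat S}

/-- The 2-isomorphism of the comparison square for the diagonal over the base. -/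
abbrev cmpIso {𝒜 ℬ : AlgSt.Cat S} (f : 𝒜 ⥤ᵇ 𝒳)
    (g : ℬ ⥤ᵇ 𝒳) : BasedFunctor.comp (FibCat.fpFst f g) (BasedFunctor.comp f (FibCat.toSelf 𝒳)) ≅
      BasedFunctor.comp (FibCat.fpSnd f g) (BasedFunctor.comp g (FibCat.toSelf 𝒳)) :=
  (wr (FibCat.fpIso f g) (FibCat.toSelf 𝒳) : BasedFunctor.comp (BasedFunctor.comp (FibCat.fpFst f g) f) _ ≅
    BasedFunctor.comp (BasedFunctor.comp (FibCat.fpSnd f g) g) _)

theorem cmpIso_app {𝒜 ℬ : AlgSt.Cat S} (f : 𝒜 ⥤ᵇ 𝒳)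
    (g : ℬ ⥤ᵇ 𝒳) (x : (FibCat.fp f g).obj) : (cmpIso f g).hom.toNatTrans.app x =
      (FibCat.toSelf 𝒳).map x.obj.iso.hom := rfl

/-- If the diagonal over the base is representable, every functor from a representable category is. -/
theorem repByAlgSp_fp_of_diag (h𝒳 : FibCat.IsFibGrpd 𝒳.p)
    (hΔ : AlgSt.RepByAlgSp1 (FibCat.diag (FibCat.toSelf 𝒳))) {𝒜 ℬ : AlgSt.Cat S} (h𝒜 : FibCat.IsFibGrpd 𝒜.p) (hℬ : FibCat.IsFibGrpd ℬ.p) (f : 𝒜 ⥤ᵇ 𝒳)
    (g : ℬ ⥤ᵇ 𝒳) (hA : AlgSt.RepByAlgSp 𝒜) (hB : AlgSt.RepByAlgSp ℬ) : AlgSt.RepByAlgSp (FibCat.fp f g) := by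
  have hc := (K743.DiagBC.cmp_isCart f g (FibCat.toSelf 𝒳) (cmpIso f g) (cmpIso_app f g)).repByAlgSp1 hΔ
  refine repByAlgSp_of_rep1 (K735.Fp.isFibGrpd_fp h𝒜 hℬ h𝒳 f g)
    (K735.Fp.isFibGrpd_fp h𝒜 hℬ K735.Fp.isFibGrpd_selfOver _ _) _ hc (repByAlgSp_fp _ _ hA hB (repByAlgSp_selfOver S))

theorem repByAlgSp1_diag_iff (h𝒳 : FibCat.IsFibGrpd 𝒳.p) :
    AlgSt.RepByAlgSp1 (FibCat.diag (FibCat.toSelf 𝒳)) ↔
      ∀ (U : Over S) (x : FibCat.overCat U ⥤ᵇ 𝒳), AlgSt.RepByAlgSp1 x := by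
  constructor
  · intro hΔ U x V y
    exact repByAlgSp_fp_of_diag h𝒳 hΔ (K735.Fp.isFibGrpd_overCat V) (K735.Fp.isFibGrpd_overCat U) y x
      (repByAlgSp_overCat V) (repByAlgSp_overCat U)
  · intro h U y
    let y1 := BasedFunctor.comp y (FibCat.fpFst _ _)
    let y2 := BasedFunctor.comp y (FibCat.fpSnd _ _)
    let δ : FibCat.overCat U ⥤ᵇ FibCat.fp (BasedFunctor.comp y1 (FibCat.toSelf 𝒳))
        (BasedFunctor.comp y2 (FibCat.toSelf 𝒳)) :=
      FibCat.fpLift (BasedFunctor.id _) (BasedFunctor.id _)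
        (wl y (FibCat.fpIso (FibCat.toSelf 𝒳) (FibCat.toSelf 𝒳)) : BasedFunctor.comp y
          (BasedFunctor.comp (FibCat.fpFst _ _) (FibCat.toSelf 𝒳)) ≅ BasedFunctor.comp y
          (BasedFunctor.comp (FibCat.fpSnd _ _) (FibCat.toSelf 𝒳)))
    have hT : AlgSt.RepByAlgSp (FibCat.fp (BasedFunctor.comp y1 (FibCat.toSelf 𝒳))
        (BasedFunctor.comp y2 (FibCat.toSelf 𝒳))) :=
      repByAlgSp_fp _ _ (repByAlgSp_overCat U) (repByAlgSp_overCat U) (repByAlgSp_selfOver S)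
    have h1 : AlgSt.RepByAlgSp (FibCat.fp δ (FibCat.fpLift (FibCat.fpFst y1 y2) (FibCat.fpSnd y1 y2)
        (cmpIso y1 y2))) :=
      repByAlgSp_fp _ _ (repByAlgSp_overCat U) (h U y2 U y1) hT
    have h2 := repByAlgSp_of_equiv h1 _ ((K743.DiagBC.cmp_isCart y1 y2 (FibCat.toSelf 𝒳) (cmpIso y1 y2)
      (cmpIso_app y1 y2)).cmp_isEquivOver δ)
    have α : BasedFunctor.comp δ (K743.DiagBC.cmpB y1 y2 (FibCat.toSelf 𝒳)) ≅ y :=
      (liftSelf y).symm
    exact repByAlgSp_of_equiv h2 _ (isEquivOver_fpCongrL α.symm _)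

end Diag

end K740.DiagRep
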