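import Groth.Agent.AlgSt.K740.Fib

/-!
# The first and the second diagonal of a functor over the base, and faithfulness (any universes)

* `diag_faithful`, `diag_full_iff : (diag F).Full ↔ F.Faithful`;
* `isEquivOver_diag_of_fullyFaithful`;
* `faithful_iff_trivial_kernel` : `F` faithful iff automorphisms over the identity killed by `F` are trivial;
* `isEquivOver_diag_diag_iff_faithful` (for categories fibred in groupoids).
-/

set_option autoImplicit false
set_option backward.isDefEq.respectTransparency false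
set_option backward.isDefEq.respectTransparency.types false

universe v₅ u₅ v₄ u₄ v₃ u₃ v₂ u₂ v u

open CategoryTheory CategoryTheory.Limits

namespace K740.Second

open K740.Fib

variable {C : Type u} [Category.{v} C]
variable {𝒳 : BasedCategory.{v₂, u₂} C} {𝒴 : BasedCategory.{v₃, u₃} C}

theorem diag_faithful (F : 𝒳 ⥤ᵇ 𝒴) : (FibCat.diag F).toFunctor.Faithful where
  map_injective {a b} f g h := congrArg (fun k => k.hom.fst) h

theorem diag_full_iff (F : 𝒳 ⥤ᵇ 𝒴) : (FibCat.diag F).toFunctor.Full ↔ F.toFunctor.Faithful := by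
  constructor
  · intro h
    refine ⟨fun {a b} f g hfg => ?_⟩
    let m : (FibCat.diag F).obj a ⟶ (FibCat.diag F).obj b :=
      ObjectProperty.homMk
        { fst := f
          snd := g
          w := by
            change F.map f ≫ 𝟙 _ = 𝟙 _ ≫ F.map g
            rw [Category.comp_id, Category.id_comp]; exact hfg }
    obtain ⟨k, hk⟩ := (FibCat.diag F).toFunctor.map_surjective m
    have h1 : k = f := congrArg (fun k => k.hom.fst) hk
    have h2 : k = g := congrArg (fun k => k.hom.snd) hk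
    exact h1.symm.trans h2
  · intro h
    refine ⟨fun {a b} m => ⟨m.hom.fst, ?_⟩⟩
    have hw : F.map m.hom.fst = F.map m.hom.snd := by
      have := m.hom.w
      have h1 : F.map m.hom.fst ≫ 𝟙 _ = 𝟙 _ ≫ F.map m.hom.snd := this
      rwa [Category.comp_id, Category.id_comp] at h1
    have : m.hom.fst = m.hom.snd := F.toFunctor.map_injective hw
    apply ObjectProperty.hom_ext
    apply CategoricalPullback.hom_ext
    · rfl
    · exact this

/-- A fully faithful functor over `C` has an invertible diagonal. -/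
theorem isEquivOver_diag_of_fullyFaithful (F : 𝒳 ⥤ᵇ 𝒴) [F.toFunctor.Full] [F.toFunctor.Faithful] :
    FibCat.IsEquivOver (FibCat.diag F) := by
  refine isEquivOver_of _ ((diag_full_iff F).2 inferInstance) (diag_faithful F) ?_
  rintro ⟨⟨x, y, φ⟩, hφ⟩
  have hφ' : 𝒴.p.IsHomLift (𝟙 (𝒳.p.obj x)) φ.hom := hφ
  let ψ : x ≅ y := F.toFunctor.preimageIso φ
  have hψ : F.map ψ.hom = φ.hom := F.toFunctor.map_preimage _
  refine ⟨x, fpIsoMk (Iso.refl x) ψ ?_, ?_⟩
  · change F.map (𝟙 x) ≫ φ.hom = 𝟙 _ ≫ F.map ψ.hom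
    rw [hψ, F.map_id]
  · refine (isHomLift_id_iff _ _).2 ⟨rfl, rfl, ?_⟩
    simp only [eqToHom_refl]
    exact 𝒳.p.map_id x

section FibGrpd

variable (h𝒳 : FibCat.IsFibGrpd 𝒳.p)

include h𝒳

/-- Two parallel morphisms of a category fibred in groupoids over the same morphism of the base differ by a unique
automorphism over the identity. -/
theorem exists_aut_of_p_eq {x y : 𝒳.obj} (a b : x ⟶ y) (hab : 𝒳.p.map a = 𝒳.p.map b) :
    ∃ γ : x ⟶ x, 𝒳.p.map γ = 𝟙 _ ∧ γ ≫ a = b := by
  have := h𝒳.isStronglyCartesian a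
  have hb : 𝒳.p.IsHomLift (𝟙 _ ≫ 𝒳.p.map a) b := by
    rw [Category.id_comp, hab]; infer_instance
  obtain ⟨γ, ⟨h1, h2⟩, -⟩ := this.universal_property' (𝟙 (𝒳.p.obj x)) b
  exact ⟨γ, (IsHomLift.eq_of_isHomLift 𝒳.p (𝟙 _) γ).symm, h2⟩

theorem cancel_of_p_eq {x y z : 𝒳.obj} (a : y ⟶ z) (b c : x ⟶ y) (hbc : 𝒳.p.map b = 𝒳.p.map c)
    (h : b ≫ a = c ≫ a) : b = c := by
  have := h𝒳.isStronglyCartesian a
  have hb : 𝒳.p.IsHomLift (𝒳.p.map c ≫ 𝒳.p.map a) (b ≫ a) := by
    rw [h, ← Functor.map_comp]; infer_instance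
  obtain ⟨γ, -, h3⟩ := this.universal_property' (𝒳.p.map c) (b ≫ a)
  have h1 := h3 b ⟨by rw [← hbc]; infer_instance, rfl⟩
  have h2 := h3 c ⟨inferInstance, h.symm⟩
  exact h1.trans h2.symm

end FibGrpd

/-- `F` is faithful exactly when its automorphism kernels are trivial. -/
theorem faithful_iff_trivial_kernel (h𝒳 : FibCat.IsFibGrpd 𝒳.p) (h𝒴 : FibCat.IsFibGrpd 𝒴.p) (F : 𝒳 ⥤ᵇ 𝒴) :
    F.toFunctor.Faithful ↔
      ∀ (a : 𝒳.obj) (φ : a ⟶ a), 𝒳.p.map φ = 𝟙 (𝒳.p.obj a) → F.map φ = 𝟙 (F.obj a) → φ = 𝟙 a := by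
  constructor
  · intro h a φ _ h2
    exact F.toFunctor.map_injective (h2.trans (F.toFunctor.map_id a).symm)
  · intro h
    refine ⟨fun {x y} a b hab => ?_⟩
    have hp : 𝒳.p.map a = 𝒳.p.map b := by
      have h1 := p_map F a
      have h2 := p_map F b
      have h3 : F.map a = F.map b := hab
      rw [h3, h2] at h1
      exact ((cancel_mono _).1 ((cancel_epi _).1 h1)).symm
    obtain ⟨γ, hγ, hγb⟩ := exists_aut_of_p_eq h𝒳 a b hp
    have hFγ : F.map γ = 𝟙 (F.obj x) := by
      refine cancel_of_p_eq h𝒴 (F.map a) _ _ ?_ ?_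
      · rw [p_map, hγ]; simp
      · rw [← Functor.map_comp, hγb, Category.id_comp]; exact hab.symm
    rw [← hγb, h x γ hγ hFγ, Category.id_comp]

/-- The second diagonal is an equivalence over the base exactly when the functor is faithful. -/
theorem isEquivOver_diag_diag_iff_faithful (h𝒳 : FibCat.IsFibGrpd 𝒳.p) (h𝒴 : FibCat.IsFibGrpd 𝒴.p) (F : 𝒳 ⥤ᵇ 𝒴) :
    FibCat.IsEquivOver (FibCat.diag (FibCat.diag F)) ↔ F.toFunctor.Faithful := by
  constructor
  · intro h
    rw [faithful_iff_trivial_kernel h𝒳 h𝒴]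
    intro x φ hφ hFφ
    have := h𝒳.isStronglyCartesian φ
    have hiso : IsIso φ := by
      have h1 : IsIso (𝒳.p.map φ) := by rw [hφ]; infer_instance
      exact Functor.IsStronglyCartesian.isIso_of_base_isIso 𝒳.p (𝒳.p.map φ) φ
    -- the object `(x, x, (𝟙, φ))` of the second fibre product
    let i : (FibCat.diag F).obj x ≅ (FibCat.diag F).obj x :=
      fpIsoMk (Iso.refl x) (asIso φ) (by
        change F.map (𝟙 x) ≫ 𝟙 _ = 𝟙 _ ≫ F.map φ
        rw [hFφ, F.map_id])
    have hi1 : i.hom.hom.fst = 𝟙 x := rfl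
    have hi2 : i.hom.hom.snd = φ := rfl
    let o : (FibCat.fp (FibCat.diag F) (FibCat.diag F)).obj :=
      ⟨⟨x, x, i⟩, by
        refine (isHomLift_id_iff _ _).2 ⟨rfl, rfl, ?_⟩
        simp only [eqToHom_refl]
        exact 𝒳.p.map_id x⟩
    obtain ⟨z, e, -⟩ := exists_iso_of_isEquivOver h o
    have hw := e.hom.hom.w
    have hw1 : ((FibCat.diag F).map e.hom.hom.fst ≫ i.hom).hom.fst =
      (𝟙 ((FibCat.diag F).obj z) ≫ (FibCat.diag F).map e.hom.hom.snd).hom.fst := congrArg (fun k => k.hom.fst) hw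
    have hw2 : ((FibCat.diag F).map e.hom.hom.fst ≫ i.hom).hom.snd =
      (𝟙 ((FibCat.diag F).obj z) ≫ (FibCat.diag F).map e.hom.hom.snd).hom.snd := congrArg (fun k => k.hom.snd) hw
    change e.hom.hom.fst ≫ 𝟙 x = 𝟙 z ≫ e.hom.hom.snd at hw1
    change e.hom.hom.fst ≫ φ = 𝟙 z ≫ e.hom.hom.snd at hw2
    rw [Category.comp_id, Category.id_comp] at hw1
    rw [Category.id_comp, ← hw1] at hw2
    have : IsIso e.hom.hom.fst := by
      change IsIso ((FibCat.fpFst (FibCat.diag F) (FibCat.diag F)).map e.hom)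
      infer_instance
    exact (cancel_epi e.hom.hom.fst).1 (hw2.trans (Category.comp_id _).symm)
  · intro h
    have := (diag_full_iff F).2 h
    have := diag_faithful F
    exact isEquivOver_diag_of_fullyFaithful _

end K740.Second
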