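import Groth.Agent.AlgSt.K734.FibFp
import Groth.Agent.AlgSt.K735.Rep
import Groth.Agent.AlgSp.K613.Basic
import Groth.Prelude.Def_AlgSt3

/-!
# Base change of representing spaces: 2-fibre products of categories of sheaves are categories of fibre products

* `RepBy q w` : `q : Q ⟶ h_U` represents `w : 𝒲 ⥤ᵇ overCat U` (an equivalence `e : ofSp Q ≃ 𝒲` with `spMapOfOver (e ⋙ w) = q`);
  invariance under equivalences, uniqueness (`RepBy.iso`), `repOver_iff`.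
* `fpOfSp` : for a pullback square of sheaves, `ofSp Q ≃ fp (ofSpMap a) (ofSpMap b)`.
* `RepBy.baseChange` : if `q : F ⟶ h_U` represents `fpFst y g` then the pullback of `q` along `h_m` represents
  `fpFst y' g` for every `y' ≅ overMap m ⋙ y`.
-/

set_option autoImplicit false
set_option backward.isDefEq.respectTransparency false
set_option backward.isDefEq.respectTransparency.types false

universe v₆ u₆ v₅ u₅ v₄ u₄ v₃ u₃ v₂ u₂ v u

open CategoryTheory CategoryTheory.Limits AlgebraicGeometry Opposite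

namespace K740.RepBC

open K734.Fib K735.Rep

variable {S : Scheme.{u}}

section Sec

variable {F G H Q : AlgSp.Sp S} {q₁ : Q ⟶ F} {q₂ : Q ⟶ G} {a : F ⟶ H} {b : G ⟶ H}

/-- The Yoneda bijection, with its universe fixed. -/
abbrev ye {T : Over S} {F : AlgSp.Sp S} : ((AlgSp.yon S).obj T ⟶ F) ≃ F.obj.obj (op T) :=
  GrothendieckTopology.uliftYonedaEquiv.{u + 1} (J := AlgSp.J S)

theorem ye_comp {T : Over S} {F G : AlgSp.Sp S} (g : (AlgSp.yon S).obj T ⟶ F) (f : F ⟶ G) :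
    ye (g ≫ f) = f.hom.app _ (ye g) :=
  GrothendieckTopology.uliftYonedaEquiv_comp.{u + 1} (J := AlgSp.J S) g f

theorem ye_symm_comp {T : Over S} {F G : AlgSp.Sp S} (x : F.obj.obj (op T)) (f : F ⟶ G) :
    ye.symm x ≫ f = ye.symm (f.hom.app _ x) := by
  apply ye.injective
  rw [ye_comp, Equiv.apply_symm_apply, Equiv.apply_symm_apply]

theorem sec_ext (sq : IsPullback q₁ q₂ a b) {T : Over S} {s s' : Q.obj.obj (op T)}
    (h1 : q₁.hom.app _ s = q₁.hom.app _ s') (h2 : q₂.hom.app _ s = q₂.hom.app _ s') : s = s' := by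
  apply ye.symm.injective
  apply sq.hom_ext
  · rw [ye_symm_comp, ye_symm_comp, h1]
  · rw [ye_symm_comp, ye_symm_comp, h2]

theorem exists_sec (sq : IsPullback q₁ q₂ a b) {T : Over S} (x : F.obj.obj (op T)) (y : G.obj.obj (op T))
    (h : a.hom.app _ x = b.hom.app _ y) :
    ∃ s : Q.obj.obj (op T), q₁.hom.app _ s = x ∧ q₂.hom.app _ s = y := by
  have w : ye.symm x ≫ a = ye.symm y ≫ b := by
    rw [ye_symm_comp, ye_symm_comp, h]
  refine ⟨ye (sq.lift _ _ w), ?_, ?_⟩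
  · rw [← ye_comp, sq.lift_fst, Equiv.apply_symm_apply]
  · rw [← ye_comp, sq.lift_snd, Equiv.apply_symm_apply]

end Sec

section FpOfSp

variable {F G H Q : AlgSp.Sp S}

theorem ofSp_vert_iff {a b : (AlgSt.ofSp F).obj} {f : a ⟶ b} :
    IsVert (AlgSt.ofSp F) f ↔ ∃ h : a.base = b.base, f.hom = eqToHom h := isVert_iff

/-- An isomorphism over the identity between objects of `ofSp H` given by equal sections over the same scheme. -/
def secIso {T : Over S} {x y : H.obj.obj (op T)} (h : x = y) : (⟨T, x⟩ : (AlgSt.ofSp H).obj) ≅ ⟨T, y⟩ :=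
  ⟨⟨𝟙 _, by rw [op_id]; erw [H.obj.map_id]; exact h.symm⟩, ⟨𝟙 _, by rw [op_id]; erw [H.obj.map_id]; exact h⟩,
    Stk.EltObj.hom_ext (Category.id_comp _), Stk.EltObj.hom_ext (Category.id_comp _)⟩

@[simp] theorem secIso_hom_hom {T : Over S} {x y : H.obj.obj (op T)} (h : x = y) : (secIso h).hom.hom = 𝟙 T := rfl

theorem secIso_vert {T : Over S} {x y : H.obj.obj (op T)} (h : x = y) : IsVert (AlgSt.ofSp H) (secIso h).hom :=
  isVert_iff.2 ⟨rfl, rfl⟩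

/-- The square of categories attached to a commutative square of sheaves. -/
def sqIso {q₁ : Q ⟶ F} {q₂ : Q ⟶ G} {a : F ⟶ H} {b : G ⟶ H} (w : q₁ ≫ a = q₂ ≫ b) :
    BasedFunctor.comp (AlgSt.ofSpMap q₁) (AlgSt.ofSpMap a) ≅ BasedFunctor.comp (AlgSt.ofSpMap q₂) (AlgSt.ofSpMap b) :=
  mkIso (fun x => secIso (congrArg (fun k => k.hom.app (op x.base) x.sec) w))
    (fun x => secIso_vert _)
    (fun {x y} f => Stk.EltObj.hom_ext (by
      change f.hom ≫ 𝟙 _ = 𝟙 _ ≫ f.hom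
      simp))

/-- The category of a fibre product of sheaves is the 2-fibre product of the categories. -/
theorem isEquivOver_fpOfSp {q₁ : Q ⟶ F} {q₂ : Q ⟶ G} {a : F ⟶ H} {b : G ⟶ H} (sq : IsPullback q₁ q₂ a b) :
    FibCat.IsEquivOver (FibCat.fpLift (AlgSt.ofSpMap q₁) (AlgSt.ofSpMap q₂) (sqIso sq.w)) := by
  refine isTwoCart_of _ _ _ ?_ ?_ ?_
  · rintro ⟨T, s⟩ ⟨T', s'⟩ f g hfg
    have h1 : f.hom ≫ 𝟙 _ = 𝟙 _ ≫ g.hom := congrArg (fun k => k.hom) hfg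
    rw [Category.comp_id, Category.id_comp] at h1
    refine ⟨⟨f.hom, sec_ext sq ?_ ?_⟩, rfl, Stk.EltObj.hom_ext h1⟩
    · rw [NatTrans.naturality_apply]; exact f.map_sec
    · rw [NatTrans.naturality_apply, h1]; exact g.map_sec
  · intro w w' h h' h1 _
    exact Stk.EltObj.hom_ext (congrArg (fun k => k.hom) h1)
  · rintro ⟨T, x⟩ ⟨T', y⟩ φ hφ
    obtain ⟨hT, hφ'⟩ := ofSp_vert_iff.1 hφ
    change T = T' at hT
    subst hT
    have hsec := φ.hom.map_sec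
    rw [hφ'] at hsec
    have hxy : a.hom.app _ x = b.hom.app _ y := by
      rw [← show H.obj.map (𝟙 (op T)) (b.hom.app _ y) = b.hom.app _ y by rw [H.obj.map_id]; rfl]
      exact hsec.symm
    obtain ⟨s, h1, h2⟩ := exists_sec sq x y hxy
    refine ⟨⟨T, s⟩, secIso h1, secIso h2, secIso_vert _, Stk.EltObj.hom_ext ?_⟩
    change 𝟙 _ ≫ φ.hom.hom = 𝟙 _ ≫ 𝟙 _
    rw [hφ']; rfl

end FpOfSp

section RepBy

variable {𝒲 : BasedCategory.{v₂, u₂} (Over S)} {𝒲' : BasedCategory.{v₃, u₃} (Over S)}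

/-- `q : Q ⟶ h_U` represents `w : 𝒲 ⥤ᵇ (Sch/U)`. -/
def RepBy {U : Over S} {Q : AlgSp.Sp S} (q : Q ⟶ (AlgSp.yon S).obj U) (w : 𝒲 ⥤ᵇ FibCat.overCat U) : Prop :=
  ∃ e : AlgSt.ofSp Q ⥤ᵇ 𝒲, FibCat.IsEquivOver e ∧ AlgSt.spMapOfOver (BasedFunctor.comp e w) = q

theorem repOver_iff {P : MorphismProperty (AlgSp.Sp S)} {U : Over S} {w : 𝒲 ⥤ᵇ FibCat.overCat U} :
    RepOver P w ↔ ∃ (F : AlgSp.Space S) (q : F.obj ⟶ (AlgSp.yon S).obj U), RepBy q w ∧ P q := by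
  constructor
  · rintro ⟨F, e, he, hP⟩
    exact ⟨F, _, ⟨e, he, rfl⟩, hP⟩
  · rintro ⟨F, q, ⟨e, he, rfl⟩, hP⟩
    exact ⟨F, e, he, hP⟩

section
variable {U : Over S} {Q : AlgSp.Sp S} {q : Q ⟶ (AlgSp.yon S).obj U} {w : 𝒲 ⥤ᵇ FibCat.overCat U}
  {w' : 𝒲' ⥤ᵇ FibCat.overCat U}

theorem RepBy.of_equiv (h : RepBy q w) (k : 𝒲 ⥤ᵇ 𝒲') (hk : FibCat.IsEquivOver k)
    (e : BasedFunctor.comp k w' ≅ w) : RepBy q w' := by
  obtain ⟨i, hi, rfl⟩ := h
  exact ⟨BasedFunctor.comp i k, isEquivOver_comp hi hk, spMapOfOver_eq_of_iso (wl i e)⟩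

theorem RepBy.of_equiv' (h : RepBy q w') (k : 𝒲 ⥤ᵇ 𝒲') (hk : FibCat.IsEquivOver k)
    (e : BasedFunctor.comp k w' ≅ w) : RepBy q w := by
  obtain ⟨k', hk', -, ⟨b⟩⟩ := exists_inverse hk
  exact h.of_equiv k' hk' (wl k' e.symm ≪≫ (wr b w' : BasedFunctor.comp (BasedFunctor.comp k' k) w' ≅ _))

theorem RepBy.iff_of_equiv (k : 𝒲 ⥤ᵇ 𝒲') (hk : FibCat.IsEquivOver k)
    (e : BasedFunctor.comp k w' ≅ w) : RepBy q w ↔ RepBy q w' :=
  ⟨fun h => h.of_equiv k hk e, fun h => h.of_equiv' k hk e⟩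

/-- Two sheaves representing the same category over `(Sch/U)` are isomorphic over `h_U`. -/
theorem RepBy.exists_iso {Q' : AlgSp.Sp S} {q' : Q' ⟶ (AlgSp.yon S).obj U} (h : RepBy q w) (h' : RepBy q' w) :
    ∃ i : Q ≅ Q', i.hom ≫ q' = q := by
  obtain ⟨e, he, rfl⟩ := h
  obtain ⟨e', he', rfl⟩ := h'
  obtain ⟨i, ⟨j⟩⟩ := exists_iso_of_rep e e' he he'
  refine ⟨i, ?_⟩
  rw [← spMapOfOver_comp_ofSpMap]
  exact spMapOfOver_eq_of_iso (wr j w)

theorem RepBy.of_iso {Q' : AlgSp.Sp S} {q' : Q' ⟶ (AlgSp.yon S).obj U} (h : RepBy q w) (i : Q' ≅ Q)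
    (hi : i.hom ≫ q = q') : RepBy q' w := by
  obtain ⟨e, he, rfl⟩ := h
  refine ⟨BasedFunctor.comp (AlgSt.ofSpMap i.hom) e, isEquivOver_comp (isEquivOver_ofSpMap_of_isIso _) he, ?_⟩
  rw [← hi, ← spMapOfOver_comp_ofSpMap]
  rfl

end

/-- A map `q : Q ⟶ h_U` represents the category `ofSp Q` with the functor it defines. -/
theorem repBy_ofSpMap {U : Over S} {Q : AlgSp.Sp S} (q : Q ⟶ (AlgSp.yon S).obj U) :
    RepBy q (BasedFunctor.comp (AlgSt.ofSpMap q) (AlgSt.toOverCat U)) :=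
  ⟨BasedFunctor.id _, isEquivOver_refl _, spMapOfOver_ofSpMap_toOverCat q⟩

end RepBy

section BaseChange

/-- `overMap m` corresponds to the map of sheaves `h_m`. -/
def overMapIso {W U : Over S} (m : W ⟶ U) :
    BasedFunctor.comp (AlgSt.toOverCat W) (AlgSt.overMap m) ≅
      BasedFunctor.comp (AlgSt.ofSpMap ((AlgSp.yon S).map m)) (AlgSt.toOverCat U) :=
  Iso.refl _

variable {𝒲 : BasedCategory.{v₂, u₂} (Over S)} {𝒳 : BasedCategory.{v₃, u₃} (Over S)}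

/-- Base change of representing sheaves. -/
theorem RepBy.baseChange {U : Over S} {y : FibCat.overCat U ⥤ᵇ 𝒲} {g : 𝒳 ⥤ᵇ 𝒲} {F : AlgSp.Sp S}
    {q : F ⟶ (AlgSp.yon S).obj U} (h : RepBy q (FibCat.fpFst y g)) {W : Over S} (m : W ⟶ U)
    {y' : FibCat.overCat W ⥤ᵇ 𝒲} (α : y' ≅ BasedFunctor.comp (AlgSt.overMap m) y) {Q : AlgSp.Sp S}
    {q₁ : Q ⟶ (AlgSp.yon S).obj W} {q₂ : Q ⟶ F} (sq : IsPullback q₁ q₂ ((AlgSp.yon S).map m) q) :
    RepBy q₁ (FibCat.fpFst y' g) := by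
  obtain ⟨e, he, rfl⟩ := h
  obtain ⟨j⟩ := exists_iso_spMapOfOver (BasedFunctor.comp e (FibCat.fpFst y g))
  -- `ofSp Q ≃ fp (ofSpMap h_m) (ofSpMap q)`
  have h1 : RepBy q₁ (BasedFunctor.comp (FibCat.fpFst (AlgSt.ofSpMap ((AlgSp.yon S).map m)) (AlgSt.ofSpMap _))
      (AlgSt.toOverCat W)) :=
    (repBy_ofSpMap q₁).of_equiv _ (isEquivOver_fpOfSp sq) (Iso.refl _)
  -- `fp (ofSpMap h_m) (ofSpMap q) ≃ fp (overMap m) (e ⋙ fpFst y g)`
  have h2 : RepBy q₁ (FibCat.fpFst (AlgSt.overMap m) (BasedFunctor.comp e (FibCat.fpFst y g))) :=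
    h1.of_equiv (K734.Fib.fpMap (AlgSt.toOverCat W) (BasedFunctor.id _) (AlgSt.toOverCat U) (overMapIso m) j)
      (K734.Fib.isEquivOver_fpMap _ _ _ _ _ (isEquivOver_toOverCat W) (isEquivOver_refl _)
        (full_of (isEquivOver_toOverCat U)) (faithful_of (isEquivOver_toOverCat U))) (Iso.refl _)
  have h3 : RepBy q₁ (FibCat.fpFst (AlgSt.overMap m) (FibCat.fpFst y g)) :=
    h2.of_equiv (fpPreR (AlgSt.overMap m) e (FibCat.fpFst y g)) (isEquivOver_fpPreR _ _ he _) (Iso.refl _)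
  have h4 : RepBy q₁ (FibCat.fpFst (BasedFunctor.comp (AlgSt.overMap m) y) g) :=
    h3.of_equiv' (fpPaste (AlgSt.overMap m) y g) (isEquivOver_fpPaste _ _ _) (Iso.refl _)
  exact h4.of_equiv (fpCongrL α g) (isEquivOver_fpCongrL α g) (Iso.refl _)

end BaseChange

end K740.RepBC
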