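import Groth.Agent.AlgSt.K740.SpDM
import Groth.Agent.AlgSt.K744.AlgOver
import Groth.Agent.Stk.K751.Slice
import Groth.Agent.Stk.K751.Over
import Groth.Agent.FibCat.K160.FpGrpd
import Groth.Agent.AlgSt.K739.Alg
import Groth.Agent.AlgSt.K738.RepDiag
import Groth.Agent.AlgSt.K734.FpAlg

/-!
# The source of a functor representable by algebraic spaces

* `isStack_of_rep1` (S12767): if `j : 𝒳 ⟶ 𝒴` is representable by algebraic spaces and `𝒴` is a stack, so is `𝒳`;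
* `isStack_fp_of_rep1` (S12769);
* `repByAlgSp1_diag_of_rep1`: diagonals of functors representable by algebraic spaces;
* `repByAlgSp1_diag_toSelf_of_rep1`, `hasAtlas_of_rep1`, `isAlgStack_of_rep1` (S12768), `isDM_of_rep1`.
-/

set_option autoImplicit false
set_option backward.isDefEq.respectTransparency false
set_option backward.isDefEq.respectTransparency.types false

universe v₄ u₄ v₃ u₃ v₂ u₂ v u

open CategoryTheory CategoryTheory.Limits AlgebraicGeometry Opposite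

namespace K740.StackOf

open K734.Fib K735.Rep K740.RepBC AlgSp

/-- On a slice the topology induced from the base category is the localised one. -/
theorem restrictedTopology_forget {C : Type u} [Category.{v} C] (J : GrothendieckTopology C) (U : C) :
    (Over.forget U).restrictedTopology J = J.over U := by
  ext x S
  exact (K751.Rest.mem_restrictedTopology_iff (p := Over.forget U) (K735.Fp.isFibGrpd_overCat U) S).trans Iff.rfl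

variable {S : Scheme.{u}}

theorem isStack_slice {𝒳 𝒴 : AlgSt.Cat S} (h𝒳 : FibCat.IsFibGrpd 𝒳.p) (h𝒴 : FibCat.IsFibGrpd 𝒴.p) (j : 𝒳 ⥤ᵇ 𝒴)
    {U : Over S} (y : FibCat.overCat U ⥤ᵇ 𝒴)
    (h : Stk.IsStack (QuotSh.J Scheme.fppfPrecoverage S) (FibCat.fp y j)) :
    Stk.IsStack ((QuotSh.J Scheme.fppfPrecoverage S).over U) (K751.Slice.slB j y) := by
  have h2 := K751.Over.isStack_over h (K751.Test.isPrestack_of_isStack (K744.AlgOver.isAlgStack_overCat U).isStack)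
    (FibCat.fpFst y j) (K160.FpGrpd.isFibGrpd_fpFst h𝒳 h𝒴 y j)
  have h3 : (FibCat.overCat U).p.restrictedTopology (QuotSh.J Scheme.fppfPrecoverage S) =
      (QuotSh.J Scheme.fppfPrecoverage S).over U := restrictedTopology_forget _ U
  rw [h3] at h2
  exact h2

/-- S12767. -/
theorem isStack_of_rep1 {𝒳 𝒴 : AlgSt.Cat S} (h𝒳 : FibCat.IsFibGrpd 𝒳.p)
    (h𝒴 : Stk.IsStack (QuotSh.J Scheme.fppfPrecoverage S) 𝒴) (j : 𝒳 ⥤ᵇ 𝒴) (hj : AlgSt.RepByAlgSp1 j) :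
    Stk.IsStack (QuotSh.J Scheme.fppfPrecoverage S) 𝒳 := by
  have hf : j.toFunctor.Faithful := K734.Rep.faithful_of_repByAlgSp1 h𝒳 h𝒴.1 j hj
  refine K751.Slice.isStack_of_slB h𝒳 h𝒴 j fun U y => ?_
  obtain ⟨F, e, he⟩ := hj U y
  exact isStack_slice h𝒳 h𝒴.1 j y ((K751.Inv.isStack_iff_of_isEquivOver he).1 (K740.SpDM.isStack_ofSp F.obj))

/-- S12769. -/
theorem isStack_fp_of_rep1 {𝒳 𝒴 𝒵 : AlgSt.Cat S}
    (h𝒳 : FibCat.IsFibGrpd 𝒳.p) (h𝒵 : FibCat.IsFibGrpd 𝒵.p)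
    (h𝒴 : Stk.IsStack (QuotSh.J Scheme.fppfPrecoverage S) 𝒴)
    (f : 𝒳 ⥤ᵇ 𝒵) (g : 𝒴 ⥤ᵇ 𝒵) (hf : AlgSt.RepByAlgSp1 f) :
    Stk.IsStack (QuotSh.J Scheme.fppfPrecoverage S) (FibCat.fp f g) :=
  isStack_of_rep1 (K160.FpGrpd.isFibGrpd_fp h𝒳 h𝒴.1 h𝒵 f g) h𝒴 (FibCat.fpSnd f g)
    (K734.Rep.repByAlgSp1_fpSnd f g hf)

theorem repByAlgSp1_diag_of_rep1 {𝒳 𝒴 : AlgSt.Cat S} (j : 𝒳 ⥤ᵇ 𝒴) (hj : AlgSt.RepByAlgSp1 j) :
    AlgSt.RepByAlgSp1 (FibCat.diag j) :=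
  K738.repByAlgSpWith_top_iff.1
    (K738.repByAlgSpWith_diag (P := ⊤) (Q := ⊤) (K738.repByAlgSpWith_top_iff.2 hj) fun _ _ _ _ _ _ _ => trivial)

theorem repByAlgSp1_diag_toSelf_of_rep1 {𝒳 𝒴 : AlgSt.Cat S} (h𝒳 : FibCat.IsFibGrpd 𝒳.p)
    (h𝒴 : FibCat.IsFibGrpd 𝒴.p) (j : 𝒳 ⥤ᵇ 𝒴) (hj : AlgSt.RepByAlgSp1 j)
    (hd : AlgSt.RepByAlgSp1 (FibCat.diag (FibCat.toSelf 𝒴))) :
    AlgSt.RepByAlgSp1 (FibCat.diag (FibCat.toSelf 𝒳)) := by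
  have h1 := K739.DiagComp.repByAlgSpWith_diag_comp h𝒳 h𝒴 K735.Fp.isFibGrpd_selfOver j (FibCat.toSelf 𝒴)
    (P := ⊤) K739.Alg.bc_top K739.Alg.comp_top K739.Alg.etDesc_top
    (K739.Alg.repByAlgSpWith_top (repByAlgSp1_diag_of_rep1 j hj)) (K739.Alg.repByAlgSpWith_top hd)
  exact K739.Alg.repByAlgSp1_of (K739.DiagComp.repByAlgSpWith_diag_congr
    (K739.Alg.selfIso (FibCat.toSelf 𝒳) (BasedFunctor.comp j (FibCat.toSelf 𝒴))) h𝒳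
      K735.Fp.isFibGrpd_selfOver h1)

/-- S12768. -/
theorem isAlgStack_of_rep1 {𝒳 𝒴 : AlgSt.Cat S}
    (h𝒳 : FibCat.IsFibGrpd 𝒳.p) (h𝒴 : AlgSt.IsAlgStack Scheme.fppfPrecoverage 𝒴)
    (j : 𝒳 ⥤ᵇ 𝒴) (hj : AlgSt.RepByAlgSp1 j) : AlgSt.IsAlgStack Scheme.fppfPrecoverage 𝒳 where
  isStack := isStack_of_rep1 h𝒳 h𝒴.isStack j hj
  diag := repByAlgSp1_diag_toSelf_of_rep1 h𝒳 h𝒴.isStack.1 j hj h𝒴.diag
  atlas := by
    obtain ⟨V, v, hv, hs⟩ := h𝒴.atlas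
    exact K734.Rep.hasAtlas_smooth_of_cover
      (K160.FpGrpd.isFibGrpd_fp (K735.Fp.isFibGrpd_overCat V) h𝒳 h𝒴.isStack.1 v j) (hj V v) (FibCat.fpSnd v j)
      (K734.Rep.repByAlgSpWith_fpSnd _ v j hv) (K734.Rep.repByAlgSpWith_fpSnd _ v j hs)

/-- the Deligne–Mumford version of S12768. -/
theorem isDM_of_rep1 {𝒳 𝒴 : AlgSt.Cat S}
    (h𝒳 : FibCat.IsFibGrpd 𝒳.p) (h𝒴 : AlgSt.IsDM Scheme.fppfPrecoverage 𝒴)
    (j : 𝒳 ⥤ᵇ 𝒴) (hj : AlgSt.RepByAlgSp1 j) : AlgSt.IsDM Scheme.fppfPrecoverage 𝒳 := by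
  refine ⟨isAlgStack_of_rep1 h𝒳 h𝒴.1 j hj, ?_⟩
  obtain ⟨V, v, hv, hs⟩ := h𝒴.2
  exact K734.Rep.hasAtlas_etale_of_cover
    (K160.FpGrpd.isFibGrpd_fp (K735.Fp.isFibGrpd_overCat V) h𝒳 h𝒴.1.isStack.1 v j) (hj V v)
    (FibCat.fpSnd v j)
    (K734.Rep.repByAlgSpWith_fpSnd _ v j hv) (K734.Rep.repByAlgSpWith_fpSnd _ v j hs)

end K740.StackOf
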