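import Groth.Agent.AlgSt.K740.RepBC
import Groth.Agent.AlgSt.K735.Fp

/-!
# Fully faithful functors are tested on slices; monomorphisms are fully faithful

* `full_faithful_of_fpFst` : `j` is fully faithful as soon as every `fpFst y j` (`y : C/U ⥤ᵇ 𝒴`) is;
* `full_faithful_of_repBy` : `w` represented by a monomorphism is fully faithful;
* `full_faithful_of_isMono` (S12774).
-/

set_option autoImplicit false
set_option backward.isDefEq.respectTransparency false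
set_option backward.isDefEq.respectTransparency.types false

universe v₄ u₄ v₃ u₃ v₂ u₂ v u

open CategoryTheory CategoryTheory.Limits AlgebraicGeometry Opposite

namespace K740.Mono

open K735.Fib K735.Fp

section Fib

variable {C : Type u} [Category.{v} C] {𝒳 : BasedCategory.{v₂, u₂} C} {𝒴 : BasedCategory.{v₃, u₃} C}

/-- Data attached to a morphism `φ : j x₁ ⟶ j x₂`: a test object `y` and two objects of `fp y j`. -/
theorem exists_test (h𝒴 : FibCat.IsFibGrpd 𝒴.p) (j : 𝒳 ⥤ᵇ 𝒴) {x₁ x₂ : 𝒳.obj} (φ : j.obj x₁ ⟶ j.obj x₂) :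
    ∃ (U : C) (y : FibCat.overCat U ⥤ᵇ 𝒴) (z₁ z₂ : (FibCat.fp y j).obj) (m : z₁.obj.fst ⟶ z₂.obj.fst)
      (e₁ : z₁.obj.snd = x₁) (e₂ : z₂.obj.snd = x₂),
      y.map m ≫ z₂.obj.iso.hom = z₁.obj.iso.hom ≫ j.map (eqToHom e₁) ≫ φ ≫ j.map (eqToHom e₂.symm) := by
  obtain ⟨y, θ₂, hθ₂⟩ := exists_yonF h𝒴 (j.obj x₂) (j.w_obj x₂)
  let u : 𝒳.p.obj x₁ ⟶ 𝒳.p.obj x₂ := eqToHom (j.w_obj x₁).symm ≫ 𝒴.p.map φ ≫ eqToHom (j.w_obj x₂)
  let a : (FibCat.overCat (𝒳.p.obj x₂)).obj := Over.mk u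
  obtain ⟨θ₁, h1, h2⟩ := exists_hom h𝒴 φ (y.map (toId a) ≫ θ₂.hom)
    (eqToHom ((y.w_obj a).trans (j.w_obj x₁).symm)) (by
      rw [Functor.map_comp, map_map, hθ₂.map_eq]
      change _ = (eqToHom _ ≫ u ≫ eqToHom _) ≫ eqToHom _
      simp [u])
  have hv : Vert 𝒴.p θ₁ := vert_of_map_eq _ h1
  have := hv.isIso h𝒴
  refine ⟨_, y, mkFp y j a x₁ (asIso θ₁) hv, mkFp y j (idObj _) x₂ θ₂ hθ₂, toId a, rfl, rfl, ?_⟩
  change y.map (toId a) ≫ θ₂.hom = θ₁ ≫ j.map (𝟙 _) ≫ φ ≫ j.map (𝟙 _)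
  rw [j.map_id, j.map_id, Category.id_comp, Category.comp_id, h2]

/-- `j` is fully faithful as soon as its base changes to slices are. -/
theorem full_faithful_of_fpFst (h𝒴 : FibCat.IsFibGrpd 𝒴.p) (j : 𝒳 ⥤ᵇ 𝒴)
    (h : ∀ (U : C) (y : FibCat.overCat U ⥤ᵇ 𝒴), (FibCat.fpFst y j).toFunctor.Full ∧
      (FibCat.fpFst y j).toFunctor.Faithful) : j.toFunctor.Full ∧ j.toFunctor.Faithful := by
  constructor
  · refine ⟨fun {x₁ x₂} φ => ?_⟩
    obtain ⟨U, y, z₁, z₂, m, rfl, rfl, hm⟩ := exists_test h𝒴 j φ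
    obtain ⟨hf, -⟩ := h _ y
    obtain ⟨n, hn⟩ := (FibCat.fpFst y j).toFunctor.map_surjective m
    refine ⟨n.hom.snd, ?_⟩
    have hw : y.map n.hom.fst ≫ z₂.obj.iso.hom = z₁.obj.iso.hom ≫ j.map n.hom.snd := n.hom.w
    have hn' : n.hom.fst = m := hn
    rw [hn', hm, cancel_epi] at hw
    simpa using hw.symm
  · refine ⟨fun {x₁ x₂} a b hab => ?_⟩
    obtain ⟨U, y, z₁, z₂, m, rfl, rfl, hm⟩ := exists_test h𝒴 j (j.map a)
    obtain ⟨-, hf⟩ := h _ y
    have hm' : y.map m ≫ z₂.obj.iso.hom = z₁.obj.iso.hom ≫ j.map a := by simpa using hm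
    have hab' : j.map a = j.map b := hab
    have hm'' : y.map m ≫ z₂.obj.iso.hom = z₁.obj.iso.hom ≫ j.map b := hm'.trans (by rw [hab'])
    have : homFp (x := z₁) (y := z₂) m a hm' = homFp (x := z₁) (y := z₂) m b hm'' :=
      (FibCat.fpFst y j).toFunctor.map_injective rfl
    exact congrArg (fun k => k.hom.snd) this

end Fib

section Sp

open K740.RepBC

variable {S : Scheme.{u}} {𝒳 : BasedCategory.{v₂, u₂} (Over S)} {𝒴 : BasedCategory.{v₃, u₃} (Over S)}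
  {𝒲 : BasedCategory.{v₄, u₄} (Over S)}

theorem injective_of_mono {F G : AlgSp.Sp S} (q : F ⟶ G) (hq : CategoryTheory.Mono q) {T : Over S}
    {s s' : F.obj.obj (op T)} (h : q.hom.app _ s = q.hom.app _ s') : s = s' := by
  apply ye.symm.injective
  rw [← cancel_mono q, ye_symm_comp, ye_symm_comp, h]

theorem faithful_ofSpMap {F G : AlgSp.Sp S} (q : F ⟶ G) : (AlgSt.ofSpMap q).toFunctor.Faithful :=
  ⟨fun {_ _} _ _ h => Stk.EltObj.hom_ext (congrArg (fun k => k.hom) h)⟩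

theorem full_ofSpMap {F G : AlgSp.Sp S} (q : F ⟶ G) (hq : CategoryTheory.Mono q) :
    (AlgSt.ofSpMap q).toFunctor.Full := by
  refine ⟨fun {a b} f => ?_⟩
  refine ⟨⟨f.hom, injective_of_mono q hq ?_⟩, Stk.EltObj.hom_ext rfl⟩
  rw [NatTrans.naturality_apply]
  exact f.map_sec

theorem full_faithful_of_repBy {U : Over S} {F : AlgSp.Sp S} {q : F ⟶ (AlgSp.yon S).obj U}
    {w : 𝒲 ⥤ᵇ FibCat.overCat U} (h : RepBy q w) (hq : CategoryTheory.Mono q) :
    w.toFunctor.Full ∧ w.toFunctor.Faithful := by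
  obtain ⟨e, he, rfl⟩ := h
  obtain ⟨j⟩ := K735.Rep.exists_iso_spMapOfOver (BasedFunctor.comp e w)
  have h1 : (BasedFunctor.comp e w).toFunctor.Full := by
    refine K734.Fib.full_of_iso j.symm ?_
    have := full_ofSpMap _ hq
    have := K734.Fib.full_of (K735.Rep.isEquivOver_toOverCat U)
    exact (inferInstance : ((AlgSt.ofSpMap (AlgSt.spMapOfOver (BasedFunctor.comp e w))).toFunctor ⋙
      (AlgSt.toOverCat U).toFunctor).Full)
  have h2 : (BasedFunctor.comp e w).toFunctor.Faithful := by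
    refine K734.Fib.faithful_of_iso j.symm ?_
    have := faithful_ofSpMap (AlgSt.spMapOfOver (BasedFunctor.comp e w))
    have := K734.Fib.faithful_of (K735.Rep.isEquivOver_toOverCat U)
    exact (inferInstance : ((AlgSt.ofSpMap (AlgSt.spMapOfOver (BasedFunctor.comp e w))).toFunctor ⋙
      (AlgSt.toOverCat U).toFunctor).Faithful)
  obtain ⟨k, hk, ⟨-⟩, ⟨b⟩⟩ := K734.Fib.exists_inverse he
  -- `w ≅ k ⋙ e ⋙ w`
  have hkf := K734.Fib.full_of hk
  have hkf' := K734.Fib.faithful_of hk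
  refine ⟨K734.Fib.full_of_iso (F := BasedFunctor.comp k (BasedFunctor.comp e w)) (K734.Fib.wr b w) ?_,
    K734.Fib.faithful_of_iso (F := BasedFunctor.comp k (BasedFunctor.comp e w)) (K734.Fib.wr b w) ?_⟩
  · exact (inferInstance : (k.toFunctor ⋙ (BasedFunctor.comp e w).toFunctor).Full)
  · exact (inferInstance : (k.toFunctor ⋙ (BasedFunctor.comp e w).toFunctor).Faithful)

/-- A monomorphism is fully faithful. -/
theorem full_faithful_of_isMono (h𝒴 : FibCat.IsFibGrpd 𝒴.p) (j : 𝒳 ⥤ᵇ 𝒴) (hj : AlgSt.IsMono j) :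
    j.toFunctor.Full ∧ j.toFunctor.Faithful := by
  refine full_faithful_of_fpFst h𝒴 j fun U y => ?_
  obtain ⟨F, e, he, hP⟩ := hj U y
  exact full_faithful_of_repBy ⟨e, he, rfl⟩ hP

end Sp

end K740.Mono
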