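import Groth.Prelude.Def_FibCat2

/-!
# Equivalences over the base: elementary criterion, full faithfulness (any universes)
-/

set_option autoImplicit false
set_option backward.isDefEq.respectTransparency false
set_option backward.isDefEq.respectTransparency.types false

universe v₅ u₅ v₄ u₄ v₃ u₃ v₂ u₂ v u

open CategoryTheory CategoryTheory.Limits

namespace K740.Fib

variable {C : Type u} [Category.{v} C]
variable {𝒳 : BasedCategory.{v₂, u₂} C} {𝒴 : BasedCategory.{v₃, u₃} C} {𝒵 : BasedCategory.{v₄, u₄} C}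

/-- A based functor preserves `p`-images: the image of `F.map φ`. -/
theorem p_map (F : 𝒳 ⥤ᵇ 𝒴) {a b : 𝒳.obj} (φ : a ⟶ b) :
    𝒴.p.map (F.map φ) = eqToHom (F.w_obj a) ≫ 𝒳.p.map φ ≫ eqToHom (F.w_obj b).symm :=
  IsHomLift.fac' 𝒴.p (𝒳.p.map φ) (F.map φ)

theorem isHomLift_id_iff (p : 𝒳.obj ⥤ C) {R : C} {a b : 𝒳.obj} (φ : a ⟶ b) :
    p.IsHomLift (𝟙 R) φ ↔ ∃ (ha : p.obj a = R) (hb : p.obj b = R), p.map φ = eqToHom (ha.trans hb.symm) := by
  constructor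
  · intro h
    refine ⟨IsHomLift.domain_eq p (𝟙 R) φ, IsHomLift.codomain_eq p (𝟙 R) φ, ?_⟩
    rw [IsHomLift.fac' p (𝟙 R) φ]; simp
  · rintro ⟨ha, hb, h⟩
    exact IsHomLift.of_fac' p (𝟙 R) φ ha hb (by simp [h])

/-- The elementary criterion for an equivalence over the base. -/
theorem isEquivOver_of (F : 𝒳 ⥤ᵇ 𝒴) (hfull : F.toFunctor.Full) (hfaith : F.toFunctor.Faithful)
    (h : ∀ η : 𝒴.obj, ∃ (ξ : 𝒳.obj) (e : F.toFunctor.obj ξ ≅ η), 𝒴.p.IsHomLift (𝟙 (𝒴.p.obj η)) e.hom) :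
    FibCat.IsEquivOver F := by
  choose ξ e he using h
  have hobj : ∀ η, 𝒳.p.obj (ξ η) = 𝒴.p.obj η := fun η =>
    (F.w_obj (ξ η)).symm.trans (IsHomLift.domain_eq 𝒴.p (𝟙 (𝒴.p.obj η)) (e η).hom)
  let G₀ : 𝒴.obj ⥤ 𝒳.obj :=
    { obj := ξ
      map := fun {a b} φ => F.toFunctor.preimage ((e a).hom ≫ φ ≫ (e b).inv)
      map_id := fun a => F.toFunctor.map_injective (by simp)
      map_comp := fun φ ψ => F.toFunctor.map_injective (by simp) }
  have hG₀ : ∀ {a b : 𝒴.obj} (φ : a ⟶ b), F.toFunctor.map (G₀.map φ) = (e a).hom ≫ φ ≫ (e b).inv :=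
    fun φ => F.toFunctor.map_preimage _
  let G : 𝒴 ⥤ᵇ 𝒳 :=
    { toFunctor := G₀
      w := Functor.ext (fun η => hobj η) (fun a b φ => by
        have h1 := he a
        have h2 := he b
        have h3 : 𝒴.p.IsHomLift (𝒴.p.map φ) (F.toFunctor.map (G₀.map φ)) := by
          rw [hG₀]; infer_instance
        have h4 : 𝒳.p.IsHomLift (𝒴.p.map φ) (G₀.map φ) := F.isHomLift_map _ _
        exact IsHomLift.fac' 𝒳.p (𝒴.p.map φ) (G₀.map φ)) }
  refine ⟨G, ⟨BasedNatIso.mkNatIso (NatIso.ofComponents (fun x => F.toFunctor.preimageIso (e (F.obj x)))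
    (fun {x y} f => F.toFunctor.map_injective ?_)) (fun x => ?_)⟩,
    ⟨BasedNatIso.mkNatIso (NatIso.ofComponents (fun y => e y) (fun {x y} f => ?_)) (fun y => ?_)⟩⟩
  · rw [Functor.map_comp, Functor.map_comp, Functor.preimageIso_hom, Functor.preimageIso_hom,
      Functor.map_preimage, Functor.map_preimage]
    change F.toFunctor.map (G₀.map (F.map f)) ≫ _ = _
    rw [hG₀]; simp
    rfl
  · have h1 := he (F.obj x)
    have h2 : 𝒴.p.IsHomLift (𝟙 (𝒳.p.obj x)) (e (F.obj x)).hom := by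
      have := F.w_obj x
      rw [← this]; exact h1
    have h3 : 𝒴.p.IsHomLift (𝟙 (𝒳.p.obj x)) (F.toFunctor.map (F.toFunctor.preimageIso (e (F.obj x))).hom) := by
      simpa using h2
    exact (F.isHomLift_iff _ _).1 h3
  · change F.toFunctor.map (G₀.map f) ≫ _ = _
    rw [hG₀]; simp
    rfl
  · exact he y

section
variable {F : 𝒳 ⥤ᵇ 𝒴} (hF : FibCat.IsEquivOver F)
include hF

theorem faithful_of_isEquivOver : F.toFunctor.Faithful := by
  obtain ⟨G, ⟨e⟩, ⟨e'⟩⟩ := hF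
  let i : F.toFunctor ⋙ G.toFunctor ≅ 𝟭 _ := (BasedNatTrans.forgetful _ _).mapIso e
  have := Functor.Faithful.of_iso i.symm
  exact Functor.Faithful.of_comp F.toFunctor G.toFunctor

theorem isEquivalence_of_isEquivOver : F.toFunctor.IsEquivalence := by
  obtain ⟨G, ⟨e⟩, ⟨e'⟩⟩ := hF
  exact (CategoryTheory.Equivalence.mk F.toFunctor G.toFunctor
    ((BasedNatTrans.forgetful _ _).mapIso e).symm ((BasedNatTrans.forgetful _ _).mapIso e')).isEquivalence_functor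

theorem full_of_isEquivOver : F.toFunctor.Full :=
  have := isEquivalence_of_isEquivOver hF
  inferInstance

theorem exists_iso_of_isEquivOver (η : 𝒴.obj) :
    ∃ (ξ : 𝒳.obj) (e : F.toFunctor.obj ξ ≅ η), 𝒴.p.IsHomLift (𝟙 (𝒴.p.obj η)) e.hom := by
  obtain ⟨G, -, ⟨e'⟩⟩ := hF
  exact ⟨G.obj η, ((BasedNatTrans.forgetful _ _).mapIso e').app η, BasedNatTrans.isHomLift e'.hom rfl⟩

end

theorem isEquivOver_iff (F : 𝒳 ⥤ᵇ 𝒴) : FibCat.IsEquivOver F ↔ (F.toFunctor.Full ∧ F.toFunctor.Faithful) ∧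
    ∀ η : 𝒴.obj, ∃ (ξ : 𝒳.obj) (e : F.toFunctor.obj ξ ≅ η), 𝒴.p.IsHomLift (𝟙 (𝒴.p.obj η)) e.hom :=
  ⟨fun h => ⟨⟨full_of_isEquivOver h, faithful_of_isEquivOver h⟩, exists_iso_of_isEquivOver h⟩,
    fun h => isEquivOver_of F h.1.1 h.1.2 h.2⟩

section fp

variable {𝒮 : BasedCategory.{v₅, u₅} C} {F : 𝒳 ⥤ᵇ 𝒮} {G : 𝒴 ⥤ᵇ 𝒮}

/-- A morphism of a 2-fibre product from its components. -/
def fpHom {x y : (FibCat.fp F G).obj} (a : x.obj.fst ⟶ y.obj.fst) (b : x.obj.snd ⟶ y.obj.snd)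
    (w : F.map a ≫ y.obj.iso.hom = x.obj.iso.hom ≫ G.map b) : x ⟶ y :=
  ObjectProperty.homMk { fst := a, snd := b, w := w }

@[simp] theorem fpHom_fst {x y : (FibCat.fp F G).obj} (a : x.obj.fst ⟶ y.obj.fst) (b : x.obj.snd ⟶ y.obj.snd)
    (w : F.map a ≫ y.obj.iso.hom = x.obj.iso.hom ≫ G.map b) : (fpHom a b w).hom.fst = a := rfl

@[simp] theorem fpHom_snd {x y : (FibCat.fp F G).obj} (a : x.obj.fst ⟶ y.obj.fst) (b : x.obj.snd ⟶ y.obj.snd)
    (w : F.map a ≫ y.obj.iso.hom = x.obj.iso.hom ≫ G.map b) : (fpHom a b w).hom.snd = b := rfl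

theorem fp_hom_ext {x y : (FibCat.fp F G).obj} {f g : x ⟶ y} (h1 : f.hom.fst = g.hom.fst)
    (h2 : f.hom.snd = g.hom.snd) : f = g :=
  ObjectProperty.hom_ext _ (CategoricalPullback.hom_ext h1 h2)

/-- The compatibility of a morphism of a 2-fibre product. -/
theorem fp_hom_w {x y : (FibCat.fp F G).obj} (f : x ⟶ y) :
    F.map f.hom.fst ≫ y.obj.iso.hom = x.obj.iso.hom ≫ G.map f.hom.snd := f.hom.w

/-- An isomorphism of a 2-fibre product from its components. -/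
def fpIsoMk {x y : (FibCat.fp F G).obj} (a : x.obj.fst ≅ y.obj.fst) (b : x.obj.snd ≅ y.obj.snd)
    (w : F.map a.hom ≫ y.obj.iso.hom = x.obj.iso.hom ≫ G.map b.hom) : x ≅ y where
  hom := fpHom a.hom b.hom w
  inv := fpHom a.inv b.inv (by
    have h1 : F.map a.inv ≫ F.map a.hom = 𝟙 _ := by rw [← Functor.map_comp, a.inv_hom_id, Functor.map_id]
    have h2 : G.map b.hom ≫ G.map b.inv = 𝟙 _ := by rw [← Functor.map_comp, b.hom_inv_id, Functor.map_id]
    calc F.map a.inv ≫ x.obj.iso.hom = F.map a.inv ≫ (x.obj.iso.hom ≫ G.map b.hom) ≫ G.map b.inv := by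
          rw [Category.assoc, h2, Category.comp_id]
      _ = y.obj.iso.hom ≫ G.map b.inv := by
          rw [← w, Category.assoc, ← Category.assoc, h1, Category.id_comp])
  hom_inv_id := fp_hom_ext a.hom_inv_id b.hom_inv_id
  inv_hom_id := fp_hom_ext a.inv_hom_id b.inv_hom_id

@[simp] theorem fpIsoMk_hom_fst {x y : (FibCat.fp F G).obj} (a : x.obj.fst ≅ y.obj.fst) (b : x.obj.snd ≅ y.obj.snd)
    (w : F.map a.hom ≫ y.obj.iso.hom = x.obj.iso.hom ≫ G.map b.hom) : (fpIsoMk a b w).hom.hom.fst = a.hom := rfl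

@[simp] theorem fpIsoMk_hom_snd {x y : (FibCat.fp F G).obj} (a : x.obj.fst ≅ y.obj.fst) (b : x.obj.snd ≅ y.obj.snd)
    (w : F.map a.hom ≫ y.obj.iso.hom = x.obj.iso.hom ≫ G.map b.hom) : (fpIsoMk a b w).hom.hom.snd = b.hom := rfl

end fp

end K740.Fib
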