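import Groth.Agent.AlgSt.K738.LftDiag
import Groth.Agent.AlgSt.K738.Small4
import Groth.Agent.AlgSt.K738.Sep2
import Groth.Agent.Flat2D.LfpComp
import Groth.Agent.CurvSt.K902.SelfChart

/-!
# The diagonal of an algebraic stack locally of finite type over `S` is locally of finite presentation
-/

set_option autoImplicit false
set_option backward.isDefEq.respectTransparency false
set_option backward.isDefEq.respectTransparency.types false

universe w₁ v₁ w' v' w v u

open CategoryTheory CategoryTheory.Limits AlgebraicGeometry Opposite AlgSp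

namespace K740.LfpDiag

open K739.Isom K739.Diag K739.Rep K738 K738.Lft

variable {S : Scheme.{u}}

theorem lfp_gr {T V : Over S} (b : T ⟶ V) (hV : LocallyOfFiniteType V.hom) :
    LocallyOfFinitePresentation (gr b).left := by
  have h : LocallyOfFinitePresentation ((gr b).left ≫ (pullback.fst (toFinal T) (toFinal V)).left) := by
    rw [← Over.comp_left, gr_fst]
    change LocallyOfFinitePresentation (𝟙 T.left)
    infer_instance
  have h2 : LocallyOfFiniteType (toFinal V).left := hV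
  have h3 : LocallyOfFiniteType (pullback.fst (toFinal T) (toFinal V)).left :=
    MorphismProperty.of_isPullback (P := @LocallyOfFiniteType)
      ((IsPullback.of_hasPullback (toFinal T) (toFinal V)).map (Over.forget S)).flip h2
  exact Groth.Agent.Flat2D.LfpComp.lfp_of_comp _ (pullback.fst (toFinal T) (toFinal V)).left

theorem locP_lfp_of_repWith {F G : Sp S} {f : F ⟶ G} (hf : RepWith @LocallyOfFinitePresentation f) :
    LocP @LocallyOfFinitePresentation f :=
  K597.locP_of_repWith (fun _ _ _ e f he hf => by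
    have : LocallyOfFinitePresentation e := inferInstance
    have : LocallyOfFinitePresentation f := hf
    exact (inferInstance : LocallyOfFinitePresentation (e ≫ f))) hf

theorem locP_lfp_comp {F G H : Sp S} {f : F ⟶ G} {g : G ⟶ H} (hF : IsAlgSpace F) (hG : IsAlgSpace G)
    (hH : IsAlgSpace H) (hf : LocP @LocallyOfFinitePresentation f) (hg : LocP @LocallyOfFinitePresentation g) :
    LocP @LocallyOfFinitePresentation (f ≫ g) :=
  K597.locP_comp K597.etLoc_lfp hF.hasAtlas hG.hasAtlas hH.hasAtlas hf hg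

section

variable {𝒳 : BasedCategory.{u, w} (Over S)} (h𝒳 : FibCat.IsFibGrpd 𝒳.p)
  (h𝒮 : FibCat.IsFibGrpd (FibCat.selfOver (Over S)).p)
  {T V : Over S} {z₁ z₂ : FibCat.overCat T ⥤ᵇ 𝒳} {v : FibCat.overCat V ⥤ᵇ 𝒳} {b : T ⟶ V}
  (α : z₂ ≅ BasedFunctor.comp (AlgSt.overMap b) v)
  (φ : BasedFunctor.comp z₁ (FibCat.toSelf 𝒳) ≅ BasedFunctor.comp z₂ (FibCat.toSelf 𝒳))

include α in
theorem repPsh_lfp (hV : LocallyOfFiniteType V.hom) {F : Sp S} (hF : IsAlgSpace F) {π : F ⟶ (yon S).obj T} (hπ : LocP @LocallyOfFinitePresentation π)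
    (R : SecRep (FibCat.fpFst z₁ v) F π) :
    RepPsh (LocP @LocallyOfFinitePresentation) (toBase (FibCat.toSelf 𝒳) z₁ z₂ φ h𝒳 h𝒮) := by
  obtain ⟨ρ, hρ⟩ := R.exists_desc (FibCat.fpSnd z₁ v)
  have sq := isPullback_toF h𝒳 h𝒮 α φ R hρ
  have sqC := IsPullback.of_hasPullback (pr π ρ) ((yon S).map (gr b))
  have sqC' := sqC.map (sheafToPresheaf (AlgSp.J S) _)
  have hC : IsAlgSpace (pullback (pr π ρ) ((yon S).map (gr b))) :=
    K613.Chart.isAlgSpace_pullback hF (IsAlgSpace.yon_obj _) (IsAlgSpace.yon_obj _) _ _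
  have h1 : pullback.snd (pr π ρ) ((yon S).map (gr b)) = pullback.fst (pr π ρ) ((yon S).map (gr b)) ≫ π := by
    have h2 : pullback.fst (pr π ρ) ((yon S).map (gr b)) ≫ (pr π ρ ≫ (yon S).map (pullback.fst _ _)) =
        pullback.snd (pr π ρ) ((yon S).map (gr b)) ≫ ((yon S).map (gr b) ≫ (yon S).map (pullback.fst _ _)) := by
      rw [← Category.assoc, pullback.condition, Category.assoc]
    rw [pr_fst, ← Functor.map_comp, gr_fst, CategoryTheory.Functor.map_id, Category.comp_id] at h2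
    exact h2.symm
  have hP : LocP @LocallyOfFinitePresentation (pullback.snd (pr π ρ) ((yon S).map (gr b))) := by
    rw [h1]
    refine locP_lfp_comp hC hF (IsAlgSpace.yon_obj T) (locP_lfp_of_repWith ?_) hπ
    exact K597.repWith_bc' _ sqC ((repWith_yon_map_iff _ _).2 (lfp_gr b hV))
  refine ⟨⟨_, hC⟩, sqC'.isoIsPullback _ _ sq, ?_⟩
  convert hP using 1
  apply ObjectProperty.hom_ext
  exact sqC'.isoIsPullback_hom_snd _ _ sq

end

/-- Descent of `LocallyOfFinitePresentation` along a smooth surjective base change. -/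
theorem locP_lfp_of_smooth {F F' : Sp S} (hF : IsAlgSpace F) {T U : Over S} {q : F ⟶ (yon S).obj U} {k : T ⟶ U}
    (hk : Smooth k.left) (hk' : Surjective k.left) {a : F' ⟶ F} {q' : F' ⟶ (yon S).obj T}
    (sq : IsPullback a q' q ((yon S).map k)) (h : LocP @LocallyOfFinitePresentation q') :
    LocP @LocallyOfFinitePresentation q := by
  obtain ⟨W, p, hp, hp'⟩ := hF.atlas
  obtain ⟨w, hw⟩ := (yon S).map_surjective (p ≫ q)
  refine K597.locP_of_chart K597.etLoc_lfp q p (𝟙 _) w hp hp' (repWith_id _ _) (by rw [hw, Category.comp_id]) ?_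
  have sqW := IsPullback.of_hasPullback w k
  have sq1 := sqW.map (yon S)
  rw [hw] at sq1
  have sq2 := IsPullback.of_bot' sq1 sq
  have h1 : LocallyOfFinitePresentation (pullback.snd w k).left :=
    h _ (𝟙 _) (pullback.snd w k) (K597.repWith_bc _ sq2 hp) (repWith_id _ _) (by
      rw [Category.comp_id]
      exact sq.lift_snd _ _ (by rw [Category.assoc]; exact sq1.w))
  have sq3 := sqW.map (Over.forget S)
  have hfl : Flat k.left := inferInstance
  have hfp : LocallyOfFinitePresentation k.left := inferInstance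
  exact MorphismProperty.of_isPullback_of_descendsAlong (P := @LocallyOfFinitePresentation)
    (Q := @Surjective ⊓ @Flat ⊓ @LocallyOfFinitePresentation) sq3.flip ⟨⟨hk', hfl⟩, hfp⟩ h1

theorem locP_lfp_of_locP_smooth {F G : Sp S} {f : F ⟶ G} (h : LocP @Smooth f) : LocP @LocallyOfFinitePresentation f :=
  K597.locP_mono (fun _ _ f (_ : Smooth f) => (inferInstance : LocallyOfFinitePresentation f)) h

theorem repByAlgSpWith_lfp_diag_toSelf' {K : Precoverage Scheme.{u}} {𝒳 : BasedCategory.{u, w} (Over S)}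
    (h𝒳 : AlgSt.IsAlgStack K 𝒳) {V : Over S} {v : FibCat.overCat V ⥤ᵇ 𝒳}
    (hv : AlgSt.RepByAlgSpWith (LocP @Smooth) v) (hv' : AlgSt.RepByAlgSpWith IsSurjectiveMor v)
    (hV : LocallyOfFiniteType V.hom) :
    AlgSt.RepByAlgSpWith (LocP @LocallyOfFinitePresentation) (FibCat.diag (FibCat.toSelf 𝒳)) := by
  have hX : FibCat.IsFibGrpd 𝒳.p := h𝒳.isStack.1
  have hS : FibCat.IsFibGrpd (FibCat.selfOver (Over S)).p := K735.Fp.isFibGrpd_selfOver
  rw [repByAlgSpWith_diag_iff _ _ hX hS]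
  intro U x₁ x₂ φ
  obtain ⟨G, β, -⟩ := (repByAlgSpWith_diag_iff ⊤ _ hX hS).1 (repByAlgSpWith_top_iff.2 h𝒳.diag) U x₁ x₂ φ
  refine ⟨G, β, ?_⟩
  obtain ⟨T, k, b, hk, hk', ε, hε⟩ := K737.LocLift.exists_lift x₂ v hv hv'
  obtain ⟨α⟩ := exists_iso_of_vert hX x₂ v k b ε hε
  obtain ⟨F, e, he, hP⟩ := hv T (BasedFunctor.comp (AlgSt.overMap k) x₁)
  obtain ⟨R⟩ := SecRep.nonempty_of_equiv _ e he
  have h2 := repPsh_lfp hX hS α (resIso (FibCat.toSelf 𝒳) k x₁ x₂ φ) hV F.property (locP_lfp_of_locP_smooth hP) R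
  have sq := isPullback_restrict (FibCat.toSelf 𝒳) k x₁ x₂ φ hX hS
  let q : G.obj ⟶ (yon S).obj U := ObjectProperty.homMk (β.hom ≫ toBase (FibCat.toSelf 𝒳) x₁ x₂ φ hX hS)
  have sqQ := IsPullback.of_hasPullback q ((yon S).map k)
  have sqQ' := sqQ.map (sheafToPresheaf (AlgSp.J S) _)
  have sq' : IsPullback (resMap (FibCat.toSelf 𝒳) k x₁ x₂ φ hX hS ≫ β.inv)
      (toBase (FibCat.toSelf 𝒳) (BasedFunctor.comp (AlgSt.overMap k) x₁) (BasedFunctor.comp (AlgSt.overMap k) x₂)
        (resIso (FibCat.toSelf 𝒳) k x₁ x₂ φ) hX hS) q.hom ((pyon S).map k) := by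
    refine IsPullback.of_iso sq (Iso.refl _) β.symm (Iso.refl _) (Iso.refl _) ?_ ?_ ?_ ?_
    · simp
    · simp
    · simp [q]
    · simp
  let γ := sq'.isoIsPullback _ _ sqQ'
  have h3 : RepPsh (LocP @LocallyOfFinitePresentation) (U := T) (G := (pullback q ((yon S).map k)).obj)
      (pullback.snd q ((yon S).map k)).hom :=
    h2.of_iso γ (sq'.isoIsPullback_hom_snd _ _ sqQ')
  have h4 := (repPsh_hom_iff (isoInv_of_respectsIso _) _).1 h3
  exact locP_lfp_of_smooth G.property hk hk' sqQ h4.2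

/-- An algebraic stack locally of finite type over `S` has a smooth surjective chart locally of finite type over `S`. -/
theorem exists_atlas_lft {𝒳 : BasedCategory.{v', w'} (Over S)}
    (h : AlgSt.LocQ (LocP @LocallyOfFiniteType) (FibCat.toSelf 𝒳)) :
    ∃ (U : Over S) (x : FibCat.overCat U ⥤ᵇ 𝒳), AlgSt.RepByAlgSpWith (LocP @Smooth) x ∧
      AlgSt.RepByAlgSpWith IsSurjectiveMor x ∧ LocallyOfFiniteType U.hom := by
  obtain ⟨U, V, x, y, g, -, hx, hxs, hy, hP⟩ := h
  have h1 : LocallyOfFiniteType g.left := AlgSp.locP_yon_map hP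
  have h2 : Smooth V.hom := K902.SelfChart.smooth_of_repByAlgSpWith hy
  refine ⟨U, x, hx, hxs, ?_⟩
  rw [← Over.w g]
  infer_instance

/-- **The diagonal of an algebraic stack locally of finite type over `S` is locally of finite presentation** (any
universes). -/
theorem repByAlgSpWith_lfp_diag {𝒳 : BasedCategory.{v', w'} (Over S)}
    (h𝒳 : AlgSt.IsAlgStack Scheme.fppfPrecoverage 𝒳)
    (h : AlgSt.LocQ (LocP @LocallyOfFiniteType) (FibCat.toSelf 𝒳)) :
    AlgSt.RepByAlgSpWith (LocP @LocallyOfFinitePresentation) (FibCat.diag (FibCat.toSelf 𝒳)) := by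
  obtain ⟨𝒳', e, he, h𝒳'⟩ := K738.Small.exists_model' h𝒳
  obtain ⟨V, v, hv, hv', hV⟩ := exists_atlas_lft ((K738.Sep.locQ_toSelf_iff he).2 h)
  exact (K740.Inv.repByAlgSpWith_diagSelf_iff _ he).1 (repByAlgSpWith_lfp_diag_toSelf' h𝒳' hv hv' hV)

/-- The same for a stack locally of finite presentation. -/
theorem repByAlgSpWith_lfp_diag_of_lfp {𝒳 : BasedCategory.{v', w'} (Over S)}
    (h𝒳 : AlgSt.IsAlgStack Scheme.fppfPrecoverage 𝒳)
    (h : AlgSt.LocQ (LocP @LocallyOfFinitePresentation) (FibCat.toSelf 𝒳)) :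
    AlgSt.RepByAlgSpWith (LocP @LocallyOfFinitePresentation) (FibCat.diag (FibCat.toSelf 𝒳)) := by
  refine repByAlgSpWith_lfp_diag h𝒳 ?_
  obtain ⟨U, V, x, y, g, i, hx, hxs, hy, hP⟩ := h
  exact ⟨U, V, x, y, g, i, hx, hxs, hy, K597.locP_mono
    (fun _ _ f (_ : LocallyOfFinitePresentation f) => (inferInstance : LocallyOfFiniteType f)) hP⟩

end K740.LfpDiag
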