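import Groth.Agent.AlgSt.K734.Pair

/-!
# A product of two objects of a category fibred in groupoids represents the fibre product of their charts
-/

set_option autoImplicit false
set_option linter.unusedVariables false
set_option backward.isDefEq.respectTransparency false
set_option backward.isDefEq.respectTransparency.types false

universe v₃ u₃ v u

open CategoryTheory CategoryTheory.Limits Opposite AlgebraicGeometry K734.Fib

namespace K740.Prod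

open K746

variable {C : Type u} [Category.{v} C] {𝒳 : BasedCategory.{v₃, u₃} C} (h𝒳 : FibCat.IsFibGrpd 𝒳.p) {V U R : C}
  {y : FibCat.overCat V ⥤ᵇ 𝒳} {x : FibCat.overCat U ⥤ᵇ 𝒳}

/-- `ρ` with `a : ρ ⟶ ξ` and `b : ρ ⟶ η` is a product in the total category. -/
def IsProd {ξ η ρ : 𝒳.obj} (a : ρ ⟶ ξ) (b : ρ ⟶ η) : Prop :=
  ∀ (ζ : 𝒳.obj) (a' : ζ ⟶ ξ) (b' : ζ ⟶ η), ∃! c : ζ ⟶ ρ, c ≫ a = a' ∧ c ≫ b = b'

theorem comp_lift {a b c : 𝒳.obj} {T T' T'' : C} {f : T'' ⟶ T'} {g : T' ⟶ T} {φ : a ⟶ b} {ψ : b ⟶ c}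
    (h : 𝒳.p.IsHomLift f φ) (h' : 𝒳.p.IsHomLift g ψ) : 𝒳.p.IsHomLift (f ≫ g) (φ ≫ ψ) := inferInstance

theorem vert_comp_lift {a b c : 𝒳.obj} {T T' : C} {g : T' ⟶ T} {φ : a ⟶ b} {ψ : b ⟶ c}
    (h : IsVert 𝒳 φ) (h' : 𝒳.p.IsHomLift g ψ) : 𝒳.p.IsHomLift g (φ ≫ ψ) := by
  have h1 : 𝒳.p.IsHomLift (𝟙 T') φ := h.lift' (IsHomLift.domain_eq 𝒳.p g ψ)
  have := comp_lift h1 h'
  rwa [Category.id_comp] at this

theorem comp_vert_lift {a b c : 𝒳.obj} {T T' : C} {g : T' ⟶ T} {φ : a ⟶ b} {ψ : b ⟶ c}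
    (h : 𝒳.p.IsHomLift g φ) (h' : IsVert 𝒳 ψ) : 𝒳.p.IsHomLift g (φ ≫ ψ) := by
  have h1 : 𝒳.p.IsHomLift (𝟙 T) ψ := h'.lift (IsHomLift.codomain_eq 𝒳.p g φ)
  have := comp_lift h h1
  rwa [Category.comp_id] at this

theorem lift_unique {a b : 𝒳.obj} {T T' : C} {f g : T' ⟶ T} {φ : a ⟶ b} (h : 𝒳.p.IsHomLift f φ)
    (h' : 𝒳.p.IsHomLift g φ) : f = g := by
  rw [IsHomLift.fac 𝒳.p f φ, IsHomLift.fac 𝒳.p g φ]

theorem rs_one (x : FibCat.overCat U ⥤ᵇ 𝒳) {T T' : C} (f : T' ⟶ T) {u : T ⟶ U} {u' : T' ⟶ U} (h : f ≫ u = u') :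
    rs x f h ≫ rs x u (Category.comp_id u) = rs x u' (Category.comp_id u') := by
  subst h
  exact rs_comp _ _ _ _ _ (Category.comp_id _)

include h𝒳 in
theorem exists_pairRep {ρ : 𝒳.obj} (a : ρ ⟶ y.obj (one V)) (b : ρ ⟶ x.obj (one U)) {s : R ⟶ V} {t : R ⟶ U}
    (hs : 𝒳.p.IsHomLift s a) (ht : 𝒳.p.IsHomLift t b) (H : IsProd a b) :
    ∃ G : PairRep y x R, G.s = s ∧ G.t = t := by
  have hys : 𝒳.p.IsHomLift s (rs y s (Category.comp_id s)) := rs_lift y s _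
  have hxt : 𝒳.p.IsHomLift t (rs x t (Category.comp_id t)) := rs_lift x t _
  obtain ⟨e₁, he₁, he₁'⟩ := exists_iso_of_lift h𝒳 hys hs
  obtain ⟨e₂, he₂, he₂'⟩ := exists_iso_of_lift h𝒳 ht hxt
  have hθ : IsVert 𝒳 (e₁.hom ≫ e₂.hom) := he₁.comp he₂
  have hρ : 𝒳.p.obj ρ = R := IsHomLift.domain_eq 𝒳.p s a
  refine ⟨⟨s, t, e₁.hom ≫ e₂.hom, hθ, ?_⟩, rfl, rfl⟩
  intro T v u φ hφ
  have hyv : 𝒳.p.IsHomLift v (rs y v (Category.comp_id v)) := rs_lift y v _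
  have hxu : 𝒳.p.IsHomLift u (rs x u (Category.comp_id u)) := rs_lift x u _
  obtain ⟨c, ⟨hc1, hc2⟩, hcu⟩ := H (Xo y v) (rs y v (Category.comp_id v)) (φ ≫ rs x u (Category.comp_id u))
  -- the base of `c`
  let r : T ⟶ R := eqToHom (Xo_base y v).symm ≫ 𝒳.p.map c ≫ eqToHom hρ
  have hr : 𝒳.p.IsHomLift r c := by
    apply IsHomLift.of_fac 𝒳.p r c (Xo_base y v) hρ
    rfl
  have hrs : r ≫ s = v := by
    have h1 := comp_lift hr hs
    rw [hc1] at h1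
    exact lift_unique h1 hyv
  have hrt : r ≫ t = u := by
    have h1 := comp_lift hr ht
    rw [hc2] at h1
    exact lift_unique h1 (vert_comp_lift hφ hxu)
  -- the factorisation of `c`
  have hc : rs y r hrs ≫ e₁.hom = c := by
    refine fac_unique' h𝒳 a (g := r) (comp_vert_lift (rs_lift y r hrs) he₁) hr ?_
    rw [Category.assoc, he₁', hc1, rs_one]
  refine ⟨r, ⟨hrs, hrt, ?_⟩, ?_⟩
  · refine fac_unique' h𝒳 (rs x t (Category.comp_id t)) (g := r) (vert_comp_lift hφ (rs_lift x r hrt))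
      (comp_vert_lift (rs_lift y r hrs) hθ) ?_
    rw [Category.assoc, rs_one, Category.assoc, Category.assoc, he₂', reassoc_of% hc, hc2]
  · rintro r' ⟨h1, h2, h3⟩
    have hc' : rs y r' h1 ≫ e₁.hom = c := by
      refine hcu _ ⟨?_, ?_⟩
      · rw [Category.assoc, he₁', rs_one]
      · have h4 := congrArg (fun k => k ≫ rs x t (Category.comp_id t)) h3
        simp only [Category.assoc] at h4
        rw [rs_one, he₂'] at h4
        rw [Category.assoc, ← h4]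
    have h5 : 𝒳.p.IsHomLift r' c := by
      rw [← hc']
      exact comp_vert_lift (rs_lift y r' h1) he₁
    exact lift_unique h5 hr

end K740.Prod
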