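import Groth.Agent.CurvSt.K742.AtlasU
import Groth.Agent.AlgSt.K743.PrU
import Groth.Agent.AlgSp.K594.Diag
import Groth.Agent.AlgSp.K595.DiagRel
import Groth.Agent.AlgSp.K595.DescInst
import Groth.Agent.AlgSt.K746.DiagFin

/-!
# A criterion for the diagonal of a stack to be separated

`K740.SepDiag.isSeparatedMor_diag`: the diagonal of a stack (with diagonal representable by algebraic spaces) is
separated as soon as, étale locally on the base, the locus where two isomorphisms agree is closed.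
-/

set_option autoImplicit false
set_option backward.isDefEq.respectTransparency false
set_option backward.isDefEq.respectTransparency.types false

universe w v₂ u₂ v u

open CategoryTheory Opposite K734.Fib AlgebraicGeometry Limits K747 K747.Sc

namespace K740.SepDiag

/-- Being a closed immersion is étale local on the base. -/
theorem isClosedImmersion_of_local {E T : Scheme.{u}} (e : E ⟶ T)
    (h : ∀ t : T, ∃ (B : Scheme.{u}) (g : B ⟶ T) (b : B), Etale g ∧ g b = t ∧ IsClosedImmersion (pullback.snd e g)) :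
    IsClosedImmersion e := by
  choose B g b hg hb hc using h
  let p : (∐ B) ⟶ T := Sigma.desc g
  have hι : ∀ t, Sigma.ι B t ≫ p = g t := fun t => Sigma.ι_desc _ _
  have hp : Etale p := by
    rw [IsZariskiLocalAtSource.iff_of_openCover (P := @Etale) (sigmaOpenCover B)]
    intro t
    change Etale (Sigma.ι B t ≫ p)
    rw [hι]
    exact hg t
  have hs : Surjective p := by
    refine ⟨fun t => ⟨Sigma.ι B t (b t), ?_⟩⟩
    rw [← Scheme.Hom.comp_apply, hι]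
    exact hb t
  have h1 : IsClosedImmersion (pullback.snd e p) := by
    rw [IsZariskiLocalAtTarget.iff_of_openCover (P := @IsClosedImmersion) (sigmaOpenCover B)]
    intro t
    change IsClosedImmersion (pullback.snd (pullback.snd e p) (Sigma.ι B t))
    have sq := (IsPullback.of_hasPullback (pullback.snd e p) (Sigma.ι B t)).paste_horiz
      (IsPullback.of_hasPullback e p)
    rw [hι] at sq
    have sq' := IsPullback.of_hasPullback e (g t)
    have h2 : pullback.snd (pullback.snd e p) (Sigma.ι B t) = (sq.isoIsPullback _ _ sq').hom ≫ pullback.snd e (g t) :=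
      (sq.isoIsPullback_hom_snd _ _ sq').symm
    rw [h2]
    have := hc t
    infer_instance
  have h3 := K595.DescInst.isClosedImmersion.{u}
  have hfl : Flat p := inferInstance
  have hlfp : LocallyOfFinitePresentation p := inferInstance
  exact MorphismProperty.of_isPullback_of_descendsAlong (P := @IsClosedImmersion) (Q := K595.RepDesc.Fppf)
    (IsPullback.of_hasPullback e p).flip ⟨⟨hs, hfl⟩, hlfp⟩ h1

variable {S : Scheme.{u}} {𝒳 : BasedCategory.{u + 1, w} (Over S)}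

/-- Étale locally on the base the locus where two isomorphisms agree is closed. -/
def LocClosedEq (𝒳 : BasedCategory.{v₂, w} (Over S)) : Prop :=
  ∀ (U : Over S) (ξ η : 𝒳.obj) (φ ψ : ξ ⟶ η), 𝒳.p.IsHomLift (𝟙 U) φ → 𝒳.p.IsHomLift (𝟙 U) ψ → ∀ t : U.left,
    ∃ (B : Over S) (ξ' : 𝒳.obj) (g : B ⟶ U) (m : ξ' ⟶ ξ) (v : B.left) (E : Over S) (e : E ⟶ B),
      𝒳.p.IsHomLift g m ∧ Etale g.left ∧ g.left v = t ∧ IsClosedImmersion e.left ∧
      ∀ {W : Over S} {ζ : 𝒳.obj} (h : W ⟶ B) (c : ζ ⟶ ξ'), 𝒳.p.IsHomLift h c →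
        (c ≫ m ≫ φ = c ≫ m ≫ ψ ↔ ∃ l : W ⟶ E, l ≫ e = h)

theorem map_eq_iff (h𝒳 : FibCat.IsFibGrpd 𝒳.p) {T U W : Over S} {x₁ x₂ : FibCat.overCat T ⥤ᵇ 𝒳} (τ : U ⟶ T)
    (φ ψ : x₁.obj (Over.mk τ) ⟶ x₂.obj (Over.mk τ)) (hφ : 𝒳.p.IsHomLift (𝟙 U) φ) (hψ : 𝒳.p.IsHomLift (𝟙 U) ψ)
    (g : W ⟶ U) :
    (K742.AtlasU.I h𝒳 x₁ x₂).map g.op (⟨⟨⟨τ, τ, φ, hφ⟩⟩, rfl⟩ : (K742.AtlasU.I h𝒳 x₁ x₂).obj (op U)) =
      (K742.AtlasU.I h𝒳 x₁ x₂).map g.op (⟨⟨⟨τ, τ, ψ, hψ⟩⟩, rfl⟩ : (K742.AtlasU.I h𝒳 x₁ x₂).obj (op U)) ↔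
    x₁.map (om g τ (g ≫ τ) rfl) ≫ φ = x₁.map (om g τ (g ≫ τ) rfl) ≫ ψ := by
  constructor
  · intro h
    have h1 : IsRes g (⟨τ, τ, φ, hφ⟩ : Sec x₁ x₂ U) _ := (isoPsh_map_eq_iff h𝒳).1 h
    have h2 := isRes_res h𝒳 g (⟨τ, τ, ψ, hψ⟩ : Sec x₁ x₂ U)
    have h3 : IsRes g (⟨τ, τ, φ, hφ⟩ : Sec x₁ x₂ U) (res h𝒳 g (⟨τ, τ, ψ, hψ⟩ : Sec x₁ x₂ U)) := h1
    generalize res h𝒳 g (⟨τ, τ, ψ, hψ⟩ : Sec x₁ x₂ U) = r at h2 h3
    obtain ⟨t, u, χ, hχ⟩ := r
    obtain ⟨ht, hu, e⟩ := h2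
    obtain ⟨ht', hu', e'⟩ := h3
    dsimp only at ht hu e ht' hu' e'
    subst ht
    exact e'.symm.trans e
  · intro h
    refine (isoPsh_map_eq_iff h𝒳).2 ?_
    change IsRes g (⟨τ, τ, φ, hφ⟩ : Sec x₁ x₂ U) (res h𝒳 g (⟨τ, τ, ψ, hψ⟩ : Sec x₁ x₂ U))
    have h2 := isRes_res h𝒳 g (⟨τ, τ, ψ, hψ⟩ : Sec x₁ x₂ U)
    generalize res h𝒳 g (⟨τ, τ, ψ, hψ⟩ : Sec x₁ x₂ U) = r at h2
    obtain ⟨t, u, χ, hχ⟩ := r
    obtain ⟨ht, hu, e⟩ := h2
    dsimp only at ht hu e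
    subst ht
    exact ⟨rfl, hu, e.trans h.symm⟩

/-- **Criterion for the diagonal to be separated.** -/
theorem isSeparatedMor_diag (h𝒳 : FibCat.IsFibGrpd 𝒳.p)
    (hd : AlgSt.RepByAlgSp1 (FibCat.diag (FibCat.toSelf 𝒳))) (H : LocClosedEq 𝒳) :
    AlgSt.RepByAlgSpWith AlgSp.IsSeparatedMor (FibCat.diag (FibCat.toSelf 𝒳)) := by
  intro T y
  have := K746.DiagFin.isSeparatedMor_respectsIso (S := S)
  refine (Rep.with_iff _ _ (toDiag_isEquivOver.{u + 1} h𝒳 y)).2 ?_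
  obtain ⟨hI, hA⟩ := (Rep.repByAlgSp_iff (toDiag_isEquivOver.{u + 1} h𝒳 y)).1 (hd T y)
  refine ⟨hI, hA, ?_⟩
  change AlgSp.IsSeparatedMor (ObjectProperty.homMk (K742.AtlasU.prI h𝒳 (y1 y) (y2 y)) :
    (⟨K742.AtlasU.I h𝒳 (y1 y) (y2 y), hI⟩ : AlgSp.Sp S) ⟶ (AlgSp.yon S).obj T)
  refine (K594.Diag.repWith_diagonal_iff _ @IsClosedImmersion).2 ⟨K595.DiagRel.representable_diagonal hA _, ?_⟩
  intro U V a b v hab hv
  obtain ⟨⟨⟨τ, τ', φ, hφ⟩⟩, h1⟩ := a
  obtain rfl : τ = τ' := h1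
  obtain ⟨⟨⟨σ, σ', ψ, hψ⟩⟩, h2⟩ := b
  obtain rfl : σ = σ' := h2
  obtain rfl : τ = σ := congrArg ULift.down hab
  refine isClosedImmersion_of_local v.left fun t => ?_
  obtain ⟨B, ξ', g, m, s, E, e, hm, hg, hs, he, hE⟩ := H U _ _ φ ψ hφ hψ t
  refine ⟨B.left, g.left, s, hg, hs, ?_⟩
  have hvm : Mono v := hv.mono'
  have hem : Mono e := by
    have : Mono e.left := inferInstance
    exact (Over.forget S).mono_of_mono_map this
  have sqO := IsPullback.of_hasPullback v g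
  -- the pullback factors through `E`
  have hA1 : ∃ l : pullback v g ⟶ E, l ≫ e = pullback.snd v g := by
    have h3 : 𝒳.p.IsHomLift (pullback.snd v g ≫ g) ((y1 y).map (om (pullback.snd v g ≫ g) τ _ rfl)) := om_lift _ _ _ _ _
    obtain ⟨c, hc, hcm⟩ := K734.Fib.exists_fac' h𝒳 hm h3
    refine (hE _ c hc).1 ?_
    rw [← Category.assoc, ← Category.assoc, hcm]
    refine (map_eq_iff h𝒳 τ φ ψ hφ hψ _).1 ?_
    rw [← sqO.w, op_comp, Functor.map_comp, comp_apply, comp_apply]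
    exact congrArg _ hv.eq
  have hA2 : ∃ l : E ⟶ pullback v g, l ≫ pullback.snd v g = e := by
    obtain ⟨ζ, c, hc⟩ := K734.Fib.exists_lift h𝒳 (IsHomLift.domain_eq 𝒳.p g m) e
    have h3 := (hE e c hc).2 ⟨𝟙 E, Category.id_comp e⟩
    have h4 : 𝒳.p.IsHomLift (e ≫ g) ((y1 y).map (om (e ≫ g) τ _ rfl)) := om_lift _ _ _ _ _
    have h5 : 𝒳.p.IsHomLift (e ≫ g) (c ≫ m) := inferInstance
    obtain ⟨i, -, hi⟩ := K734.Fib.exists_iso_of_lift h𝒳 h4 h5
    have h6 := (map_eq_iff h𝒳 τ φ ψ hφ hψ (e ≫ g)).2 (by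
      rw [← hi]
      simp only [Category.assoc]
      rw [h3])
    obtain ⟨k, hk⟩ := hv.lift (e ≫ g) h6
    exact ⟨sqO.lift k e hk, sqO.lift_snd _ _ _⟩
  obtain ⟨l, hl⟩ := hA1
  obtain ⟨l', hl'⟩ := hA2
  have hpm : Mono (pullback.snd v g) := inferInstance
  let i : pullback v g ≅ E := ⟨l, l', by rw [← cancel_mono (pullback.snd v g), Category.assoc, hl', hl, Category.id_comp],
    by rw [← cancel_mono e, Category.assoc, hl, hl', Category.id_comp]⟩
  have h7 : IsClosedImmersion (pullback.snd v g).left := by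
    rw [← hl, Over.comp_left]
    have : IsIso l.left := inferInstanceAs (IsIso ((Over.forget S).mapIso i).hom)
    infer_instance
  have sqL := sqO.map (Over.forget S)
  have sqL' := IsPullback.of_hasPullback v.left g.left
  have h8 : pullback.snd v.left g.left = (sqL'.isoIsPullback _ _ sqL).hom ≫ (pullback.snd v g).left :=
    (sqL'.isoIsPullback_hom_snd _ _ sqL).symm
  rw [h8]
  infer_instance

end K740.SepDiag
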